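import Groth.Agent.Diff.Etale
import Mathlib.RingTheory.Localization.BaseChange

/-!
Base change of principal parts.
-/

set_option autoImplicit false
set_option linter.unusedSectionVars false

noncomputable section

namespace Groth.Agent.Diff.BaseChange

universe u

open scoped TensorProduct
open Groth.Agent.Diff.Basic Groth.Agent.Diff.Monomial Groth.Agent.Diff.PM Groth.Agent.Diff.Etale

theorem isPushout_of_bijective {B P B' P' : Type u} [CommRing B] [CommRing P] [CommRing B']
    [CommRing P'] [Algebra B P] [Algebra B B'] [Algebra P P'] [Algebra B' P'] [Algebra B P']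
    [IsScalarTower B P P'] [IsScalarTower B B' P'] (f : B' ⊗[B] P →ₐ[B'] P')
    (hf : Function.Bijective f) (h : ∀ p, f ((1 : B') ⊗ₜ[B] p) = algebraMap P P' p) :
    Algebra.IsPushout B P B' P' := by
  haveI : Algebra.IsPushout B B' P P' :=
    ⟨IsBaseChange.of_equiv (AlgEquiv.ofBijective f hf).toLinearEquiv h⟩
  exact Algebra.IsPushout.symm inferInstance

theorem surjective_of_gen {A B T : Type u} [CommRing A] [CommRing B] [CommRing T] [Algebra A B]
    [Algebra B T] {n : ℕ} {ι : Type u} {z : ι → B} (hz : Gen A z)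
    (f : T →ₐ[B] PP16.P n A B) (h : ∀ i, q n A B (delta A (z i)) ∈ f.range) :
    Function.Surjective f := by
  intro p
  obtain ⟨x, rfl⟩ := q_surjective n A B p
  obtain ⟨P, -, hP⟩ := exists_sub_mem hz 0 x (by simp) (n + 1)
  have e : q n A B x = q n A B (theta A z P) := Ideal.Quotient.eq.mpr hP
  rw [e]
  let g : MvPolynomial ι B →ₐ[B] PP16.P n A B :=
    (Ideal.Quotient.mkₐ B _).comp (theta A z)
  have : g.range ≤ f.range := by
    rw [← Algebra.map_top g, ← MvPolynomial.adjoin_range_X, AlgHom.map_adjoin, Algebra.adjoin_le_iff]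
    rintro _ ⟨_, ⟨i, rfl⟩, rfl⟩
    have : g (MvPolynomial.X i) = q n A B (delta A (z i)) := by
      show q n A B (theta A z (MvPolynomial.X i)) = _
      simp [theta]
    rw [this]
    exact h i
  exact this ⟨P, rfl⟩

section square

variable (n : ℕ) (A B A' B' : Type u) [CommRing A] [CommRing B] [Algebra A B]
  [CommRing A'] [CommRing B'] [Algebra A' B'] [Algebra A A'] [Algebra B B'] [Algebra A B']
  [IsScalarTower A A' B'] [IsScalarTower A B B'] [Algebra.IsPushout A B A' B']

/-- the second-factor map on `B` -/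
def rightB : B →ₐ[A] B' ⊗[B] PP16.P n A B :=
  { (Algebra.TensorProduct.includeRight (R := B) (A := B') (B := PP16.P n A B)).toRingHom.comp
      (PP16.dn n A B).toRingHom with
    commutes' := fun a => by
      show (1 : B') ⊗ₜ[B] PP16.dn n A B (algebraMap A B a) = _
      rw [Algebra.TensorProduct.algebraMap_apply, IsScalarTower.algebraMap_apply A B B',
        Algebra.algebraMap_eq_smul_one (R := B) (A := B'), TensorProduct.smul_tmul]
      congr 1
      rw [← Algebra.algebraMap_eq_smul_one, AlgHom.commutes, IsScalarTower.algebraMap_apply A B] }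

/-- the second-factor map on `B'` -/
def rho : B' →ₐ[A] B' ⊗[B] PP16.P n A B :=
  Algebra.pushoutDesc B' (rightB n A B B')
    (((Algebra.TensorProduct.includeLeft (R := B) (S := A) (A := B') (B := PP16.P n A B))).comp
      (IsScalarTower.toAlgHom A A' B'))
    (fun _ _ => mul_comm (G := B' ⊗[B] PP16.P n A B) _ _)

theorem rho_B (b : B) :
    rho n A B A' B' (algebraMap B B' b) = (1 : B') ⊗ₜ[B] PP16.dn n A B b :=
  Algebra.pushoutDesc_left B' _ _ _ b

theorem rho_A' (a : A') :
    rho n A B A' B' (algebraMap A' B' a) = algebraMap A' B' a ⊗ₜ[B] (1 : PP16.P n A B) :=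
  Algebra.pushoutDesc_right B' _ _ _ a

theorem augT0_rho (x : B') : augT0 n A B B' (rho n A B A' B' x) = x := by
  have h : ((augT0 n A B B').restrictScalars A).comp (rho n A B A' B') = AlgHom.id A B' := by
    refine Algebra.IsPushout.algHom_ext (R := A) (S := B) (R' := A') (S' := B') ?_ ?_
    · refine AlgHom.ext fun a => ?_
      show augT0 n A B B' (rho n A B A' B' (algebraMap A' B' a)) = algebraMap A' B' a
      rw [rho_A']
      simp [augT0, augGen, Algebra.TensorProduct.lift_tmul]
    · refine AlgHom.ext fun b => ?_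
      show augT0 n A B B' (rho n A B A' B' (algebraMap B B' b)) = algebraMap B B' b
      rw [rho_B]
      show augT0 n A B B' ((1 : B') ⊗ₜ[B] q n A B ((1 : B) ⊗ₜ[A] b)) = _
      simp [augT0, augGen, Algebra.TensorProduct.lift_tmul, augP_q_tmul, Algebra.ofId_apply]
  exact DFunLike.congr_fun h x

/-- `rho` over `A'` -/
def rhoA' : B' →ₐ[A'] B' ⊗[B] PP16.P n A B :=
  { (rho n A B A' B').toRingHom with
    commutes' := fun a => by
      show rho n A B A' B' (algebraMap A' B' a) = _
      rw [rho_A', Algebra.TensorProduct.algebraMap_apply] }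

/-- `B' ⊗[A'] B' → B' ⊗[B] P^n` -/
def mu : B' ⊗[A'] B' →ₐ[B'] B' ⊗[B] PP16.P n A B :=
  Algebra.TensorProduct.lift (Algebra.ofId B' _) (rhoA' n A B A' B')
    (fun _ _ => mul_comm (G := B' ⊗[B] PP16.P n A B) _ _)

theorem mu_tmul (a c : B') :
    mu n A B A' B' (a ⊗ₜ[A'] c) = (a ⊗ₜ[B] (1 : PP16.P n A B)) * rho n A B A' B' c := by
  simp [mu, Algebra.TensorProduct.lift_tmul, Algebra.ofId_apply,
    Algebra.TensorProduct.algebraMap_apply]
  rfl

theorem mu_mem {x : B' ⊗[A'] B'} (hx : x ∈ KaehlerDifferential.ideal A' B' ^ (n + 1)) :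
    mu n A B A' B' x = 0 := by
  refine eq_zero_of_augGen (augP n A B) (sub_augP_mem n A B) (aug_pow n A B) (mu n A B A' B')
    (delta A') span_range_delta (fun a => ?_) hx
  show augT0 n A B B' (mu n A B A' B' (delta A' a)) = 0
  rw [delta, map_sub, map_sub, mu_tmul, mu_tmul, map_mul, map_mul, augT0_rho, augT0_rho]
  simp [augT0, augGen, Algebra.TensorProduct.lift_tmul]

/-- `P^n_{B'/A'} → B' ⊗[B] P^n_{B/A}` -/
def muBar : PP16.P n A' B' →ₐ[B'] B' ⊗[B] PP16.P n A B :=
  Ideal.Quotient.liftₐ ((KaehlerDifferential.ideal A' B') ^ (n + 1)) (mu n A B A' B')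
    (fun _ hx => mu_mem n A B A' B' hx)

theorem muBar_q (x : B' ⊗[A'] B') : muBar n A B A' B' (q n A' B' x) = mu n A B A' B' x := rfl

/-- functoriality map as a `B`-algebra map -/
def mapB : PP16.P n A B →ₐ[B] PP16.P n A' B' :=
  { (PP16.map n A B A' B').toRingHom with
    commutes' := fun b => by
      show PP16.map n A B A' B' (algebraMap B (PP16.P n A B) b) = _
      rw [PP16.map_algebraMap, ← IsScalarTower.algebraMap_apply] }

/-- `B' ⊗[B] P^n_{B/A} → P^n_{B'/A'}` -/
def nu : B' ⊗[B] PP16.P n A B →ₐ[B'] PP16.P n A' B' :=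
  Algebra.TensorProduct.lift (Algebra.ofId B' _) (mapB n A B A' B') (fun _ _ => Commute.all _ _)

theorem nu_one_tmul (p : PP16.P n A B) :
    nu n A B A' B' ((1 : B') ⊗ₜ[B] p) = PP16.map n A B A' B' p := by
  rw [nu, Algebra.TensorProduct.lift_tmul, map_one, one_mul]
  rfl

theorem muBar_nu (t : B' ⊗[B] PP16.P n A B) :
    muBar n A B A' B' (nu n A B A' B' t) = t := by
  induction t using TensorProduct.induction_on with
  | zero => simp
  | add x y hx hy => rw [map_add, map_add, hx, hy]
  | tmul b p =>
    obtain ⟨x, rfl⟩ := q_surjective n A B p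
    induction x using TensorProduct.induction_on with
    | zero => simp
    | add x y hx hy => rw [map_add, TensorProduct.tmul_add, map_add, map_add, hx, hy]
    | tmul a c =>
      have e : nu n A B A' B' (b ⊗ₜ[B] q n A B (a ⊗ₜ[A] c)) =
          q n A' B' ((b * algebraMap B B' a) ⊗ₜ[A'] algebraMap B B' c) := by
        rw [nu, Algebra.TensorProduct.lift_tmul]
        show q n A' B' (b ⊗ₜ[A'] (1 : B')) *
          q n A' B' (PP16.tensorMap A B A' B' (a ⊗ₜ[A] c)) = _
        rw [PP16.tensorMap_tmul, ← map_mul, Algebra.TensorProduct.tmul_mul_tmul, one_mul]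
      rw [e, muBar_q, mu_tmul, rho_B, Algebra.TensorProduct.tmul_mul_tmul, mul_one]
      rw [mul_comm b, ← Algebra.smul_def, TensorProduct.smul_tmul, one_mul, Algebra.smul_def]
      congr 1
      show q n A B (a ⊗ₜ[A] (1 : B)) * q n A B ((1 : B) ⊗ₜ[A] c) = q n A B (a ⊗ₜ[A] c)
      rw [← map_mul, Algebra.TensorProduct.tmul_mul_tmul, mul_one, one_mul]

include A in
theorem gen_square : Gen A' (zB B B') := by
  let S : Submodule B' (KaehlerDifferential A' B') :=
    Submodule.span B' (Set.range fun i => KaehlerDifferential.D A' B' (zB B B' i))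
  show S = ⊤
  rw [eq_top_iff, ← KaehlerDifferential.span_range_derivation, Submodule.span_le,
    Set.range_subset_iff]
  intro x
  rw [SetLike.mem_coe]
  have H : Algebra.IsPushout A A' B B' := Algebra.IsPushout.symm inferInstance
  refine H.out.inductionOn x _ ?_ ?_ ?_ ?_
  · rw [map_zero]; exact zero_mem _
  · exact fun b => Submodule.subset_span ⟨b, rfl⟩
  · intro a y hy
    rw [Derivation.map_smul, ← algebraMap_smul B' a (KaehlerDifferential.D A' B' y)]
    exact Submodule.smul_mem _ _ hy
  · intro x y hx hy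
    rw [map_add]
    exact add_mem hx hy

theorem nu_bijective : Function.Bijective (nu n A B A' B') := by
  refine ⟨fun x y h => by rw [← muBar_nu n A B A' B' x, h, muBar_nu],
    surjective_of_gen (A := A') (B := B') (T := B' ⊗[B] PP16.P n A B) (n := n)
      (gen_square A B A' B') (nu n A B A' B') fun i => ?_⟩
  refine ⟨(1 : B') ⊗ₜ[B] q n A B (delta A i), (nu_one_tmul n A B A' B' _).trans ?_⟩
  show q n A' B' (PP16.tensorMap A B A' B' (delta A i)) = _
  simp [delta, zB, PP16.tensorMap_tmul]

attribute [local instance] PP16.mapAlgebra PP16.isScalarTower_mapAlgebra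

theorem isPushout : Algebra.IsPushout B (PP16.P n A B) B' (PP16.P n A' B') :=
  isPushout_of_bijective (nu n A B A' B') (nu_bijective n A B A' B')
    (fun p => nu_one_tmul n A B A' B' p)

end square

section localization

variable (n : ℕ) (A B B' : Type u) [CommRing A] [CommRing B] [CommRing B'] [Algebra A B]
  [Algebra A B'] [Algebra B B'] [IsScalarTower A B B'] [Algebra.FormallyEtale B B']

attribute [local instance] PP16.mapAlgebra PP16.isScalarTower_mapAlgebra

theorem isPushout_etale : Algebra.IsPushout B (PP16.P n A B) B' (PP16.P n A B') := by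
  refine isPushout_of_bijective (Etale.nu n A B B') (Etale.nu_bijective n A B B') fun p => ?_
  rw [Etale.nu, Algebra.TensorProduct.lift_tmul, map_one, one_mul]
  rfl

theorem isLocalization (S : Submonoid B) [IsLocalization S B'] :
    IsLocalization (S.map (algebraMap B (PP16.P n A B))) (PP16.P n A B') :=
  (Algebra.isLocalization_iff_isPushout (R := B) (T := PP16.P n A B) (A := B') S).mpr
    (isPushout_etale n A B B')

end localization

end Groth.Agent.Diff.BaseChange
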