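import Mathlib.RingTheory.Kaehler.Basic
import Mathlib.RingTheory.TensorProduct.Basic
import Mathlib.Algebra.BigOperators.Ring.Finset
import Groth.Prelude.Def_DiffOp

/-!
Differential operators as the elements of `Hom_A(M,N)` killed by a power of the diagonal ideal,
for the `B ⊗[A] B`-action `((b ⊗ c) • D) m = b • D (c • m)`.
-/

set_option autoImplicit false

namespace Groth.Agent.Diff.Basic

universe u v w

open scoped TensorProduct

variable {A B : Type u} [CommRing A] [CommRing B] [Algebra A B]

section act

variable {M N : Type v} [AddCommGroup M] [Module A M] [Module B M] [IsScalarTower A B M]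
  [AddCommGroup N] [Module A N] [Module B N] [IsScalarTower A B N]

/-- post-composition by a scalar -/
noncomputable def actL : B →ₐ[A] Module.End A (M →ₗ[A] N) where
  toFun b :=
    { toFun := fun D => (Algebra.lsmul A A N b) ∘ₗ D
      map_add' := fun D D' => by simp [LinearMap.comp_add]
      map_smul' := fun a D => by simp [LinearMap.comp_smul] }
  map_one' := by ext D m; simp
  map_mul' b c := by ext D m; simp [mul_smul]
  map_zero' := by ext D m; simp
  map_add' b c := by ext D m; simp [add_smul]
  commutes' a := by ext D m; simp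

/-- pre-composition by a scalar -/
noncomputable def actR : B →ₐ[A] Module.End A (M →ₗ[A] N) where
  toFun b :=
    { toFun := fun D => D ∘ₗ (Algebra.lsmul A A M b)
      map_add' := fun D D' => by simp [LinearMap.add_comp]
      map_smul' := fun a D => by simp [LinearMap.smul_comp] }
  map_one' := by ext D m; simp
  map_mul' b c := by ext D m; simp [← mul_smul, mul_comm b c]
  map_zero' := by ext D m; simp
  map_add' b c := by ext D m; simp [add_smul]
  commutes' a := by ext D m; simp

/-- the action of `B ⊗[A] B` on `Hom_A(M,N)` -/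
noncomputable def act : B ⊗[A] B →ₐ[A] Module.End A (M →ₗ[A] N) :=
  Algebra.TensorProduct.lift actL actR (fun b c => by
    ext D m; simp [actL, actR])

@[simp]
theorem act_tmul (b c : B) (D : M →ₗ[A] N) (m : M) : act (b ⊗ₜ[A] c) D m = b • D (c • m) := by
  simp [act, actL, actR]

/-- the diagonal element `1 ⊗ b - b ⊗ 1` -/
noncomputable def delta (A : Type u) {B : Type u} [CommRing A] [CommRing B] [Algebra A B] (b : B) :
    B ⊗[A] B := (1 : B) ⊗ₜ[A] b - b ⊗ₜ[A] (1 : B)

theorem delta_mem (b : B) : delta A b ∈ KaehlerDifferential.ideal A B :=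
  KaehlerDifferential.one_smul_sub_smul_one_mem_ideal A b

theorem span_range_delta :
    Ideal.span (Set.range (delta A (B := B))) = KaehlerDifferential.ideal A B :=
  KaehlerDifferential.span_range_eq_ideal A B

theorem act_delta (b : B) (D : M →ₗ[A] N) :
    act (delta A b) D = Diff16.commutator A B M N D b := by
  ext m
  simp [delta, Diff16.commutator, map_sub]

theorem act_delta_apply (b : B) (D : M →ₗ[A] N) (m : M) :
    act (delta A b) D m = D (b • m) - b • D m := by
  simp [delta, map_sub]

/-- the elements of `B ⊗ B` killing `D` form an ideal -/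
noncomputable def annD (D : M →ₗ[A] N) : Ideal (B ⊗[A] B) where
  carrier := {x | act x D = 0}
  add_mem' := fun {x y} hx hy => by simp_all [map_add]
  zero_mem' := by simp
  smul_mem' := fun c x hx => by simp_all [map_mul]

theorem mem_annD {D : M →ₗ[A] N} {x : B ⊗[A] B} : x ∈ annD D ↔ act x D = 0 := Iff.rfl

theorem act_mul (x y : B ⊗[A] B) (D : M →ₗ[A] N) : act (x * y) D = act x (act y D) := by
  rw [map_mul]; rfl

theorem span_mul_le_annD_iff (s : Set (B ⊗[A] B)) (J : Ideal (B ⊗[A] B)) (D : M →ₗ[A] N) :
    J * Ideal.span s ≤ annD D ↔ ∀ g ∈ s, J ≤ annD (act g D) := by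
  constructor
  · intro h g hg x hx
    rw [mem_annD, ← act_mul]
    exact h (Ideal.mul_mem_mul hx (Ideal.subset_span hg))
  · intro h
    rw [Ideal.mul_le]
    intro x hx y hy
    induction hy using Submodule.span_induction with
    | mem g hg => rw [mem_annD, act_mul]; exact h g hg hx
    | zero => simp
    | add y y' _ _ hy hy' => rw [mul_add]; exact (annD D).add_mem hy hy'
    | smul c y _ hy => rw [smul_eq_mul, mul_left_comm]; exact (annD D).mul_mem_left c hy

theorem isDiffOpLE_iff_le_annD (n : ℕ) (D : M →ₗ[A] N) :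
    Diff16.IsDiffOpLE A B M N n D ↔ (KaehlerDifferential.ideal A B) ^ (n + 1) ≤ annD D := by
  induction n generalizing D with
  | zero =>
    rw [zero_add, pow_one, ← span_range_delta, Ideal.span_le, Set.range_subset_iff]
    simp only [Diff16.IsDiffOpLE, SetLike.mem_coe, mem_annD]
    constructor
    · intro h b; ext m; rw [act_delta_apply, h b m, sub_self, LinearMap.zero_apply]
    · intro h b m
      have := LinearMap.congr_fun (h b) m
      rwa [act_delta_apply, LinearMap.zero_apply, sub_eq_zero] at this
  | succ n ih =>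
    rw [pow_succ]
    conv_rhs => arg 1; arg 2; rw [← span_range_delta]
    rw [span_mul_le_annD_iff, Set.forall_mem_range]
    simp only [Diff16.IsDiffOpLE]
    refine forall_congr' fun b => ?_
    rw [act_delta, ih]

theorem isDiffOpLE_zero_map (n : ℕ) : Diff16.IsDiffOpLE A B M N n 0 := by
  rw [isDiffOpLE_iff_le_annD]; intro x _; simp [mem_annD]

theorem isDiffOpLE_add {n : ℕ} {D D' : M →ₗ[A] N} (h : Diff16.IsDiffOpLE A B M N n D)
    (h' : Diff16.IsDiffOpLE A B M N n D') : Diff16.IsDiffOpLE A B M N n (D + D') := by
  rw [isDiffOpLE_iff_le_annD] at *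
  intro x hx
  have h₁ : act x D = 0 := h hx
  have h₂ : act x D' = 0 := h' hx
  simp [mem_annD, map_add, h₁, h₂]

theorem isDiffOpLE_mono {m n : ℕ} (hmn : m ≤ n) {D : M →ₗ[A] N}
    (h : Diff16.IsDiffOpLE A B M N m D) : Diff16.IsDiffOpLE A B M N n D := by
  rw [isDiffOpLE_iff_le_annD] at *
  exact (Ideal.pow_le_pow_right (by omega)).trans h

theorem isDiffOpLE_smul {n : ℕ} (c : B) {D : M →ₗ[A] N} (h : Diff16.IsDiffOpLE A B M N n D) :
    Diff16.IsDiffOpLE A B M N n (c • D) := by
  rw [isDiffOpLE_iff_le_annD] at *
  intro x hx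
  have e : c • D = act (c ⊗ₜ[A] (1 : B)) D := by ext m; simp
  rw [mem_annD, e, ← act_mul]
  exact h (Ideal.mul_mem_right _ _ hx)

theorem act_prod_delta {ι : Type w} (s : Finset ι) [DecidableEq ι] (b : ι → B) (D : M →ₗ[A] N)
    (t : M) :
    act (∏ i ∈ s, delta A (b i)) D t =
      ∑ H ∈ s.powerset, ((-1 : ℤ) ^ H.card) •
        ((∏ i ∈ H, b i) • D ((∏ i ∈ s \ H, b i) • t)) := by
  have hL : ∀ i, delta A (b i) =
      (-(Algebra.TensorProduct.includeLeft (R := A) (S := A) (A := B) (B := B) (b i))) +
        Algebra.TensorProduct.includeRight (R := A) (A := B) (B := B) (b i) := by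
    intro i; simp [delta]; abel
  simp only [hL, Finset.prod_add, map_sum, LinearMap.sum_apply]
  refine Finset.sum_congr rfl fun H _ => ?_
  rw [Finset.prod_neg, ← map_prod, ← map_prod]
  rw [Algebra.TensorProduct.includeLeft_apply, Algebra.TensorProduct.includeRight_apply]
  have : ((-1 : B ⊗[A] B) ^ H.card * ((∏ i ∈ H, b i) ⊗ₜ[A] (1 : B))) *
      ((1 : B) ⊗ₜ[A] (∏ i ∈ s \ H, b i)) =
      ((-1 : ℤ) ^ H.card) • ((∏ i ∈ H, b i) ⊗ₜ[A] (∏ i ∈ s \ H, b i)) := by
    rw [mul_assoc, Algebra.TensorProduct.tmul_mul_tmul, mul_one, one_mul, zsmul_eq_mul]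
    simp
  rw [this, map_zsmul, LinearMap.smul_apply, LinearMap.smul_apply, act_tmul]

theorem pow_le_iff_prod {R : Type u} [CommRing R] {α : Type w} (g : α → R) (J : Ideal R) :
    ∀ (n : ℕ), Ideal.span (Set.range g) ^ n ≤ J ↔ ∀ f : Fin n → α, ∏ i, g (f i) ∈ J := by
  intro n
  induction n generalizing J with
  | zero =>
    simp only [pow_zero, Ideal.one_eq_top, Fin.prod_univ_zero]
    constructor
    · intro h f; exact h trivial
    · intro h x _
      have := J.mul_mem_left x (h Fin.elim0)
      rwa [mul_one] at this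
  | succ n ih =>
    rw [pow_succ, Ideal.mul_le]
    constructor
    · intro h f
      rw [Fin.prod_univ_castSucc]
      refine h _ ?_ _ (Ideal.subset_span ⟨_, rfl⟩)
      have := (ih (Ideal.span (Set.range g) ^ n)).mp le_rfl
      exact this _
    · intro h x hx y hy
      induction hy using Submodule.span_induction with
      | mem y hy =>
        obtain ⟨a, rfl⟩ := hy
        let K : Ideal R :=
          { carrier := {x | x * g a ∈ J}
            add_mem' := fun {x y} hx hy => by
              show (x + y) * g a ∈ J
              rw [add_mul]; exact J.add_mem hx hy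
            zero_mem' := by simp
            smul_mem' := fun c x hx => by
              show (c * x) * g a ∈ J
              rw [mul_assoc]; exact J.mul_mem_left c hx }
        have hK : Ideal.span (Set.range g) ^ n ≤ K := (ih K).mpr fun f => by
          have := h (Fin.snoc f a)
          rw [Fin.prod_univ_castSucc] at this
          show _ * g a ∈ J
          simpa using this
        exact hK hx
      | zero => simp
      | add y y' _ _ hy hy' => rw [mul_add]; exact J.add_mem hy hy'
      | smul c y _ hy => rw [smul_eq_mul, mul_left_comm]; exact J.mul_mem_left c hy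

theorem isDiffOpLE_iff_act_prod (n : ℕ) (D : M →ₗ[A] N) :
    Diff16.IsDiffOpLE A B M N n D ↔ ∀ b : Fin (n + 1) → B, act (∏ i, delta A (b i)) D = 0 := by
  rw [isDiffOpLE_iff_le_annD, ← span_range_delta, pow_le_iff_prod]
  rfl

theorem ideal_eq_span_of_adjoin (s : Set B) (hs : Algebra.adjoin A s = ⊤) :
    KaehlerDifferential.ideal A B = Ideal.span (delta A '' s) := by
  apply le_antisymm
  · rw [← span_range_delta, Ideal.span_le, Set.range_subset_iff]
    intro b
    have hb : b ∈ Algebra.adjoin A s := by rw [hs]; trivial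
    rw [SetLike.mem_coe]
    induction hb using Algebra.adjoin_induction with
    | mem x hx => exact Ideal.subset_span ⟨x, hx, rfl⟩
    | algebraMap r =>
      have : delta A (algebraMap A B r) = 0 := by
        rw [delta, Algebra.algebraMap_eq_smul_one, TensorProduct.smul_tmul, sub_self]
      rw [this]; exact zero_mem _
    | add x y _ _ hx hy =>
      have : delta A (x + y) = delta A x + delta A y := by
        simp only [delta, TensorProduct.add_tmul, TensorProduct.tmul_add]; abel
      rw [this]; exact add_mem hx hy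
    | mul x y _ _ hx hy =>
      have : delta A (x * y) =
          ((1 : B) ⊗ₜ[A] y) * delta A x + (x ⊗ₜ[A] (1 : B)) * delta A y := by
        simp only [delta, mul_sub, Algebra.TensorProduct.tmul_mul_tmul, one_mul, mul_one,
          mul_comm y x]
        abel
      rw [this]; exact add_mem (Ideal.mul_mem_left _ _ hx) (Ideal.mul_mem_left _ _ hy)
  · rw [Ideal.span_le]; rintro _ ⟨b, _, rfl⟩; exact delta_mem b

end act

section comp

variable {M N P : Type v} [AddCommGroup M] [Module A M] [Module B M] [IsScalarTower A B M]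
  [AddCommGroup N] [Module A N] [Module B N] [IsScalarTower A B N]
  [AddCommGroup P] [Module A P] [Module B P] [IsScalarTower A B P]

theorem commutator_comp (D : M →ₗ[A] N) (D' : N →ₗ[A] P) (b : B) :
    Diff16.commutator A B M P (D' ∘ₗ D) b =
      Diff16.commutator A B N P D' b ∘ₗ D + D' ∘ₗ Diff16.commutator A B M N D b := by
  ext m; simp [Diff16.commutator, map_sub]

theorem isDiffOpLE_comp : ∀ (k n n' : ℕ), n + n' = k → ∀ (D : M →ₗ[A] N) (D' : N →ₗ[A] P),
    Diff16.IsDiffOpLE A B M N n D → Diff16.IsDiffOpLE A B N P n' D' →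
      Diff16.IsDiffOpLE A B M P k (D' ∘ₗ D)
  | 0, n, n', h, D, D', hD, hD' => by
    obtain ⟨rfl, rfl⟩ : n = 0 ∧ n' = 0 := by omega
    intro b m
    simp only [Diff16.IsDiffOpLE] at hD hD'
    simp [hD b m, hD' b (D m)]
  | k + 1, n, n', h, D, D', hD, hD' => by
    intro b
    rw [commutator_comp]
    refine isDiffOpLE_add ?_ ?_
    · cases n' with
      | zero =>
        have e : Diff16.commutator A B N P D' b = 0 := by
          ext m; simp only [Diff16.IsDiffOpLE] at hD'; simp [Diff16.commutator, hD' b m]
        rw [e, LinearMap.zero_comp]; exact isDiffOpLE_zero_map k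
      | succ n' => exact isDiffOpLE_comp k n n' (by omega) D _ hD (hD' b)
    · cases n with
      | zero =>
        have e : Diff16.commutator A B M N D b = 0 := by
          ext m; simp only [Diff16.IsDiffOpLE] at hD; simp [Diff16.commutator, hD b m]
        rw [e, LinearMap.comp_zero]; exact isDiffOpLE_zero_map k
      | succ n => exact isDiffOpLE_comp k n n' (by omega) _ D' (hD b) hD'

end comp

section self

variable {N : Type u} [AddCommGroup N] [Module A N] [Module B N] [IsScalarTower A B N]

theorem linearize_tmul (D : B →ₗ[A] N) (b c : B) :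
    Diff16.linearize A B B N D (b ⊗ₜ[A] c) = b • D c := by
  simp [Diff16.linearize]

theorem linearize_eq (D : B →ₗ[A] N) (x : B ⊗[A] B) :
    Diff16.linearize A B B N D x = act x D 1 := by
  induction x using TensorProduct.induction_on with
  | zero => simp
  | tmul b c => rw [linearize_tmul, act_tmul, smul_eq_mul, mul_one]
  | add x y hx hy => simp [map_add, hx, hy]

theorem le_annD_iff_linearize (J : Ideal (B ⊗[A] B)) (D : B →ₗ[A] N) :
    J ≤ annD D ↔ ∀ x ∈ J, Diff16.linearize A B B N D x = 0 := by
  constructor
  · intro h x hx; rw [linearize_eq, mem_annD.mp (h hx), LinearMap.zero_apply]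
  · intro h x hx
    rw [mem_annD]; ext m
    have e : act x D m = act (((1 : B) ⊗ₜ[A] m) * x) D 1 := by
      rw [act_mul, act_tmul, one_smul, smul_eq_mul, mul_one]
    rw [e, ← linearize_eq, h _ (J.mul_mem_left _ hx), LinearMap.zero_apply]

theorem isDiffOpLE_iff_linearize (n : ℕ) (D : B →ₗ[A] N) :
    Diff16.IsDiffOpLE A B B N n D ↔
      ∀ x ∈ (KaehlerDifferential.ideal A B) ^ (n + 1), Diff16.linearize A B B N D x = 0 := by
  rw [isDiffOpLE_iff_le_annD, le_annD_iff_linearize]

end self

end Groth.Agent.Diff.Basic
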