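import Groth.Agent.Diff.Sym
import Mathlib.Algebra.MvPolynomial.Derivation
import Mathlib.Algebra.Algebra.Operations
import Mathlib.LinearAlgebra.TensorProduct.Tower

/-!
A free module of differentials over a `ℚ`-algebra gives differential smoothness.
-/

set_option autoImplicit false

noncomputable section

namespace Groth.Agent.Diff.CharZero

universe u

open scoped TensorProduct
open Groth.Agent.Diff.Basic Groth.Agent.Diff.Monomial Groth.Agent.Diff.Sym MvPolynomial

variable {A B : Type u} [CommRing A] [CommRing B] [Algebra A B]
  (s : KaehlerDifferential A B →ₗ[B] B →₀ B)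

/-- linear forms from the section -/
def W : Submodule B (MvPolynomial B B) := LinearMap.range (lin ∘ₗ s)

theorem pol_mem_W {ι' : Type u} [Fintype ι'] (t : SymmetricPower B ι' (KaehlerDifferential A B)) :
    pol s t ∈ W s ^ Fintype.card ι' := by
  have ht : t ∈ Submodule.span B (Set.range (SymmetricPower.tprod B (ι := ι')
      (M := KaehlerDifferential A B))) := by
    rw [SymmetricPower.span_tprod_eq_top]; trivial
  induction ht using Submodule.span_induction with
  | mem x hx =>
    obtain ⟨m, rfl⟩ := hx
    rw [pol_tprod, ← Finset.card_univ]
    induction (Finset.univ : Finset ι') using Finset.cons_induction with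
    | empty => simp [Submodule.one_le.mp le_rfl]
    | cons a S ha ih =>
      rw [Finset.prod_cons, Finset.card_cons, pow_succ']
      exact Submodule.mul_mem_mul ⟨m a, rfl⟩ ih
  | zero => rw [map_zero]; exact zero_mem _
  | add x y _ _ hx hy => rw [map_add]; exact add_mem hx hy
  | smul c x _ hx => rw [map_smul]; exact Submodule.smul_mem _ _ hx

theorem mem_W_zero {P : MvPolynomial B B} (hP : P ∈ W s ^ 0) : ∃ c, C c = P := by
  rw [pow_zero, Submodule.mem_one] at hP
  exact hP

/-- the derivation of polynomials given by a functional on differentials -/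
def dhat (f : KaehlerDifferential A B →ₗ[B] B) :
    Derivation B (MvPolynomial B B) (MvPolynomial B B) :=
  mkDerivation B fun a => C (f (KaehlerDifferential.D A B a))

theorem dhat_lin (f : KaehlerDifferential A B →ₗ[B] B) (c : B →₀ B) :
    dhat f (lin c) =
      C (f (Finsupp.linearCombination B (fun a : B => KaehlerDifferential.D A B a) c)) := by
  induction c using Finsupp.induction_linear with
  | zero => simp
  | add a b ha hb => simp only [map_add, ha, hb]
  | single a r =>
    rw [lin_single, Derivation.map_smul, Finsupp.linearCombination_single, map_smul]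
    simp [dhat, smul_eq_C_mul]

theorem dhat_mem (f : KaehlerDifferential A B →ₗ[B] B) :
    ∀ (n : ℕ) (P : MvPolynomial B B), P ∈ W s ^ (n + 1) → dhat f P ∈ W s ^ n := by
  have hw : ∀ w ∈ W s, ∃ c, dhat f w = C c := by
    rintro _ ⟨m, rfl⟩
    exact ⟨_, dhat_lin f (s m)⟩
  intro n
  induction n with
  | zero =>
    intro P hP
    rw [zero_add, pow_one] at hP
    obtain ⟨c, hc⟩ := hw P hP
    rw [hc, pow_zero, Submodule.mem_one]
    exact ⟨c, rfl⟩
  | succ n ih =>
    intro P hP
    rw [pow_succ] at hP
    induction hP using Submodule.mul_induction_on' with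
    | mem_mul_mem a ha w hw' =>
      rw [Derivation.leibniz, smul_eq_mul, smul_eq_mul]
      refine add_mem ?_ ?_
      · obtain ⟨c, hc⟩ := hw w hw'
        rw [hc, mul_comm, ← smul_eq_C_mul]
        exact Submodule.smul_mem _ _ ha
      · rw [mul_comm, pow_succ]
        exact Submodule.mul_mem_mul (ih a ha) hw'
    | add x _ y _ hx hy => rw [map_add]; exact add_mem hx hy

/-- Euler derivation -/
def euler : Derivation B (MvPolynomial B B) (MvPolynomial B B) :=
  mkDerivation B fun a => lin (s (KaehlerDifferential.D A B a))

theorem euler_eq (hs : IsSec (fun b : B => b) s) :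
    ∀ (n : ℕ) (P : MvPolynomial B B), P ∈ W s ^ n → euler s P = n • P := by
  have hc : ∀ c, euler s (lin c) =
      lin (s (Finsupp.linearCombination B (fun a : B => KaehlerDifferential.D A B a) c)) := by
    intro c
    induction c using Finsupp.induction_linear with
    | zero => simp
    | add a b ha hb => simp only [map_add, ha, hb]
    | single a r =>
      rw [lin_single, Derivation.map_smul, Finsupp.linearCombination_single, map_smul, map_smul]
      simp [euler]
  intro n
  induction n with
  | zero =>
    intro P hP
    obtain ⟨c, rfl⟩ := mem_W_zero s hP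
    rw [zero_smul]
    exact (euler s).map_algebraMap c
  | succ n ih =>
    intro P hP
    rw [pow_succ] at hP
    induction hP using Submodule.mul_induction_on' with
    | mem_mul_mem a ha w hw =>
      obtain ⟨m, rfl⟩ := hw
      rw [LinearMap.comp_apply, Derivation.leibniz, ih a ha, hc, hs m]
      simp only [smul_eq_mul, nsmul_eq_mul, Nat.cast_add, Nat.cast_one]
      ring
    | add x _ y _ hx hy => rw [map_add, hx, hy, smul_add]

variable {κ : Type u}

/-- all the derivations at once -/
def grad (b : Module.Basis κ B (KaehlerDifferential A B)) :
    Derivation B (MvPolynomial B B) (κ →₀ MvPolynomial B B) :=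
  mkDerivation B fun a => Finsupp.mapRange C (map_zero C) (b.repr (KaehlerDifferential.D A B a))

theorem grad_apply (b : Module.Basis κ B (KaehlerDifferential A B)) (k : κ) (P : MvPolynomial B B) :
    grad b P k = dhat (b.coord k) P := by
  have h : (Finsupp.lapply k : (κ →₀ MvPolynomial B B) →ₗ[MvPolynomial B B] _).compDer (grad b) =
      dhat (b.coord k) := derivation_ext fun a => by
    simp [grad, dhat]
  exact DFunLike.congr_fun h P

theorem euler_eq_grad (b : Module.Basis κ B (KaehlerDifferential A B)) (P : MvPolynomial B B) :
    euler s P =
      Finsupp.linearCombination (MvPolynomial B B) (fun k => lin (s (b k))) (grad b P) := by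
  have h : euler s =
      (Finsupp.linearCombination (MvPolynomial B B) (fun k => lin (s (b k)))).compDer (grad b) := by
    refine derivation_ext fun a => ?_
    show euler s (X a) = Finsupp.linearCombination _ _ (grad b (X a))
    simp only [euler, grad, mkDerivation_X, Finsupp.linearCombination_apply]
    rw [Finsupp.sum_mapRange_index (by simp)]
    conv_lhs => rw [← b.linearCombination_repr (KaehlerDifferential.D A B a),
      Finsupp.linearCombination_apply, map_finsuppSum, map_finsuppSum]
    refine Finsupp.sum_congr fun k _ => ?_
    rw [map_smul, map_smul, smul_eq_C_mul, smul_eq_mul]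
  exact DFunLike.congr_fun h P

/-- a derivation of `B` acting on the second factor -/
def dright (f : KaehlerDifferential A B →ₗ[B] B) : B ⊗[A] B →ₗ[B] B ⊗[A] B :=
  LinearMap.baseChange B
    ((f.restrictScalars A) ∘ₗ (KaehlerDifferential.D A B).toLinearMap)

theorem dright_tmul (f : KaehlerDifferential A B →ₗ[B] B) (x y : B) :
    dright f (x ⊗ₜ[A] y) = x ⊗ₜ[A] f (KaehlerDifferential.D A B y) := rfl

theorem dright_mul (f : KaehlerDifferential A B →ₗ[B] B) (x y : B ⊗[A] B) :
    dright f (x * y) = dright f x * y + x * dright f y := by
  induction x using TensorProduct.induction_on with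
  | zero => simp
  | add a b ha hb => rw [add_mul, map_add, map_add, ha, hb]; ring
  | tmul a b =>
    induction y using TensorProduct.induction_on with
    | zero => simp
    | add c d hc hd => rw [mul_add, map_add, map_add, hc, hd]; ring
    | tmul c d =>
      rw [Algebra.TensorProduct.tmul_mul_tmul, dright_tmul, dright_tmul, dright_tmul,
        Algebra.TensorProduct.tmul_mul_tmul, Algebra.TensorProduct.tmul_mul_tmul,
        ← TensorProduct.tmul_add, Derivation.leibniz, map_add, map_smul, map_smul, smul_eq_mul,
        smul_eq_mul, add_comm, mul_comm d]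

theorem dright_mem (f : KaehlerDifferential A B →ₗ[B] B) :
    ∀ (n : ℕ) (x : B ⊗[A] B), x ∈ KaehlerDifferential.ideal A B ^ (n + 1) →
      dright f x ∈ KaehlerDifferential.ideal A B ^ n := by
  intro n
  induction n with
  | zero => intro x _; simp
  | succ n ih =>
    intro x hx
    rw [pow_succ] at hx
    induction hx using Submodule.mul_induction_on' with
    | mem_mul_mem a ha c hc =>
      rw [dright_mul]
      refine add_mem ?_ (Ideal.mul_mem_right _ _ ha)
      rw [pow_succ]
      exact Ideal.mul_mem_mul (ih a ha) hc
    | add x _ y _ hx hy => rw [map_add]; exact add_mem hx hy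

theorem defect_mem (f : KaehlerDifferential A B →ₗ[B] B) :
    ∀ (n : ℕ) (P : MvPolynomial B B), P ∈ idealOfVars B B ^ n →
      dright f (theta A (fun b : B => b) P) - theta A (fun b : B => b) (dhat f P) ∈
        KaehlerDifferential.ideal A B ^ n := by
  have hI : ∀ P : MvPolynomial B B,
      dright f (theta A (fun b : B => b) P) - theta A (fun b : B => b) (dhat f P) ∈
        KaehlerDifferential.ideal A B := by
    intro P
    induction P using MvPolynomial.induction_on with
    | C c =>
      have : dhat f (C c) = 0 := (dhat f).map_algebraMap c
      rw [this, map_zero, sub_zero]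
      simp [theta, Algebra.TensorProduct.algebraMap_apply, dright_tmul]
    | add P Q hP hQ => rw [map_add, map_add, map_add, map_add, add_sub_add_comm]; exact add_mem hP hQ
    | mul_X P a hP =>
      have hX : dright f (theta A (fun b : B => b) (X a)) -
          theta A (fun b : B => b) (dhat f (X a)) ∈ KaehlerDifferential.ideal A B := by
        have e : dright f (theta A (fun b : B => b) (X a)) -
            theta A (fun b : B => b) (dhat f (X a)) =
            delta A (f (KaehlerDifferential.D A B a)) := by
          simp [theta, dhat, delta, map_sub, dright_tmul, Algebra.TensorProduct.algebraMap_apply]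
        rw [e]
        exact delta_mem _
      rw [map_mul, dright_mul, Derivation.leibniz, smul_eq_mul, smul_eq_mul, map_add, map_mul,
        map_mul]
      have := add_mem (Ideal.mul_mem_right (theta A (fun b : B => b) (X a)) _ hP)
        (Ideal.mul_mem_left _ (theta A (fun b : B => b) P) hX)
      convert this using 1
      ring
  intro n
  induction n with
  | zero => intro P _; simp
  | succ n ih =>
    intro P hP
    rw [pow_succ] at hP
    induction hP using Submodule.mul_induction_on' with
    | mem_mul_mem a ha c hc =>
      rw [map_mul, dright_mul, Derivation.leibniz, smul_eq_mul, smul_eq_mul, map_add, map_mul,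
        map_mul]
      have hc' : theta A (fun b : B => b) c ∈ KaehlerDifferential.ideal A B := by
        have := theta_mem_pow (A := A) (z := fun b : B => b) (j := 1) (by rwa [pow_one] : c ∈ _)
        rwa [pow_one] at this
      have h1 := Ideal.mul_mem_mul (ih a ha) hc'
      have h2 := Ideal.mul_mem_mul (theta_mem_pow (A := A) (z := fun b : B => b) ha) (hI c)
      have := add_mem h1 h2
      rw [← pow_succ] at this
      convert this using 1
      ring
    | add x _ y _ hx hy =>
      rw [map_add, map_add, map_add, map_add, add_sub_add_comm]
      exact add_mem hx hy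

theorem eq_zero_of_theta_mem [Algebra ℚ B] (hs : IsSec (fun b : B => b) s)
    (b : Module.Basis κ B (KaehlerDifferential A B)) :
    ∀ (n : ℕ) (P : MvPolynomial B B), P ∈ W s ^ n →
      theta A (fun b : B => b) P ∈ KaehlerDifferential.ideal A B ^ (n + 1) → P = 0 := by
  intro n
  induction n with
  | zero =>
    intro P hP h
    obtain ⟨c, rfl⟩ := mem_W_zero s hP
    rw [zero_add, pow_one, RingHom.mem_ker] at h
    have : c = 0 := by simpa [theta] using h
    rw [this, map_zero]
  | succ n ih =>
    intro P hP h
    have hPJ : P ∈ idealOfVars B B ^ (n + 1) := by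
      have hle : W s ^ (n + 1) ≤ (idealOfVars B B ^ (n + 1)).restrictScalars B := by
        rw [Submodule.restrictScalars_pow (Nat.succ_ne_zero n)]
        refine pow_le_pow_left' ?_ _
        rintro _ ⟨m, rfl⟩
        exact lin_mem (s m)
      exact hle hP
    have hg : grad b P = 0 := by
      ext1 k
      rw [grad_apply, Finsupp.zero_apply]
      refine ih _ (dhat_mem s _ n P hP) ?_
      have := sub_mem (dright_mem (b.coord k) (n + 1) _ h) (defect_mem (b.coord k) (n + 1) P hPJ)
      rwa [sub_sub_cancel] at this
    have he : (n + 1) • P = 0 := by
      rw [← euler_eq s hs (n + 1) P hP, euler_eq_grad s b, hg, map_zero]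
    have hu : IsUnit ((n + 1 : ℕ) : B) := by
      have := (IsUnit.mk0 ((n + 1 : ℕ) : ℚ) (Nat.cast_ne_zero.mpr (Nat.succ_ne_zero n))).map
        (algebraMap ℚ B)
      rwa [map_natCast] at this
    rw [← Nat.cast_smul_eq_nsmul B] at he
    exact hu.smul_eq_zero.mp he

theorem isDiffSmooth_of_basis [Algebra ℚ B] (b : Module.Basis κ B (KaehlerDifferential A B)) :
    PP16.IsDiffSmooth A B := by
  have hsurj : Function.Surjective
      (Finsupp.linearCombination B (fun a : B => KaehlerDifferential.D A B a)) := by
    intro x
    have hx : x ∈ Submodule.span B (Set.range (KaehlerDifferential.D A B)) := by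
      rw [KaehlerDifferential.span_range_derivation]; trivial
    rw [Finsupp.mem_span_range_iff_exists_finsupp] at hx
    obtain ⟨c, hc⟩ := hx
    exact ⟨c, by rw [Finsupp.linearCombination_apply]; exact hc⟩
  haveI : Module.Projective B (KaehlerDifferential A B) := Module.Projective.of_basis b
  obtain ⟨s, hs⟩ := Module.projective_lifting_property _ LinearMap.id hsurj
  have hsec : IsSec (fun b : B => b) s := fun m => LinearMap.congr_fun hs m
  refine isDiffSmooth_of_pol s hsec fun ι' _ t ht => ?_
  rw [eq_zero_of_theta_mem s hsec b _ _ (pol_mem_W s t) ht]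
  exact zero_mem _

end Groth.Agent.Diff.CharZero
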