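import Groth.Agent.Diff.Basic
import Groth.Prelude.Def_PP16

/-!
The module of principal parts `P^n(M)` as the universal target of differential operators.
-/

set_option autoImplicit false

noncomputable section

namespace Groth.Agent.Diff.PM

universe u

open scoped TensorProduct
open Groth.Agent.Diff.Basic

variable (n : ℕ) (A B : Type u) [CommRing A] [CommRing B] [Algebra A B]

/-- the quotient map to principal parts -/
def q : B ⊗[A] B →+* PP16.P n A B := Ideal.Quotient.mk _

theorem q_surjective : Function.Surjective (q n A B) := Ideal.Quotient.mk_surjective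

variable (M : Type u) [AddCommGroup M] [Module A M] [Module B M] [IsScalarTower A B M]

/-- the element `x ⊗ m` with `x` given in `B ⊗ B` -/
def pure (x : B ⊗[A] B) (m : M) : PP16.PM n A B M :=
  (show PP16.Pr n A B from q n A B x) ⊗ₜ[B] m

theorem pure_eq_smul (x : B ⊗[A] B) (m : M) :
    pure n A B M x m = q n A B x • PP16.dM n A B M m := by
  show _ = q n A B x • ((1 : PP16.Pr n A B) ⊗ₜ[B] m)
  rw [TensorProduct.smul_tmul']
  exact congrArg (fun y : PP16.Pr n A B => y ⊗ₜ[B] m) (mul_one (q n A B x)).symm

theorem pure_tmul (b c : B) (m : M) :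
    pure n A B M (b ⊗ₜ[A] c) m =
      algebraMap B (PP16.P n A B) b • PP16.dM n A B M (c • m) := by
  show _ = algebraMap B (PP16.P n A B) b • ((1 : PP16.Pr n A B) ⊗ₜ[B] (c • m))
  rw [TensorProduct.smul_tmul', TensorProduct.tmul_smul]
  rw [TensorProduct.smul_tmul']
  refine congrArg (fun y : PP16.Pr n A B => y ⊗ₜ[B] m) ?_
  show q n A B (b ⊗ₜ[A] c) = q n A B ((1 : B) ⊗ₜ[A] c) * (q n A B (b ⊗ₜ[A] (1 : B)) * 1)
  rw [mul_one, ← map_mul, Algebra.TensorProduct.tmul_mul_tmul, one_mul, mul_one]

theorem pure_zero (m : M) : pure n A B M 0 m = 0 := by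
  rw [pure_eq_smul, map_zero, zero_smul]

theorem pure_add (x y : B ⊗[A] B) (m : M) :
    pure n A B M (x + y) m = pure n A B M x m + pure n A B M y m := by
  rw [pure_eq_smul, pure_eq_smul, pure_eq_smul, map_add, add_smul]

theorem pm_ext {N : Type u} [AddCommGroup N] [Module B N] (u v : PP16.PM n A B M →+ N)
    (hu : ∀ (b : B) (t : PP16.PM n A B M), u (algebraMap B (PP16.P n A B) b • t) = b • u t)
    (hv : ∀ (b : B) (t : PP16.PM n A B M), v (algebraMap B (PP16.P n A B) b • t) = b • v t)
    (h : ∀ m, u (PP16.dM n A B M m) = v (PP16.dM n A B M m)) : u = v := by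
  refine AddMonoidHom.ext fun t => ?_
  induction t using TensorProduct.induction_on with
  | zero => simp
  | add x y hx hy => simp [hx, hy]
  | tmul x m =>
    obtain ⟨x', hx'⟩ := q_surjective n A B (show PP16.P n A B from x)
    have : (x ⊗ₜ[B] m : PP16.PM n A B M) = pure n A B M x' m := by
      unfold pure; rw [hx']
    rw [this]; clear hx' this
    induction x' using TensorProduct.induction_on with
    | zero => simp [pure_zero]
    | add x y hx hy => simp [pure_add, hx, hy]
    | tmul b c => rw [pure_tmul, hu, hv, h]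

variable {n A B M}
variable {N : Type u} [AddCommGroup N] [Module A N] [Module B N] [IsScalarTower A B N]

theorem act_eq (D : M →ₗ[A] N) (u : PP16.PM n A B M →+ N)
    (hu : ∀ (b : B) (t : PP16.PM n A B M), u (algebraMap B (PP16.P n A B) b • t) = b • u t)
    (hD : ∀ m : M, u (PP16.dM n A B M m) = D m) (x : B ⊗[A] B) (m : M) :
    act x D m = u (pure n A B M x m) := by
  induction x using TensorProduct.induction_on with
  | zero => simp [pure_zero]
  | add x y hx hy => simp [map_add, pure_add, hx, hy]
  | tmul b c => rw [act_tmul, pure_tmul, hu, hD]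

theorem isDiffOpLE_of_factor (D : M →ₗ[A] N) (u : PP16.PM n A B M →+ N)
    (hu : ∀ (b : B) (t : PP16.PM n A B M), u (algebraMap B (PP16.P n A B) b • t) = b • u t)
    (hD : ∀ m : M, u (PP16.dM n A B M m) = D m) : Diff16.IsDiffOpLE A B M N n D := by
  rw [isDiffOpLE_iff_le_annD]
  intro x hx
  rw [mem_annD]; ext m
  rw [act_eq D u hu hD, pure_eq_smul]
  have : q n A B x = 0 := Ideal.Quotient.eq_zero_iff_mem.mpr hx
  rw [this, zero_smul, map_zero, LinearMap.zero_apply]

/-- the linear map `P^n → Hom_A(M,N)` attached to an operator -/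
def actQ (D : M →ₗ[A] N) (hD : Diff16.IsDiffOpLE A B M N n D) :
    PP16.Pr n A B →+ (M →+ N) :=
  QuotientAddGroup.lift (Submodule.toAddSubgroup ((KaehlerDifferential.ideal A B) ^ (n + 1)))
    { toFun := fun x => (act x D).toAddMonoidHom
      map_zero' := by ext m; simp
      map_add' := fun x y => by ext m; simp [map_add] }
    (fun x hx => by
      have h : act x D = 0 := (isDiffOpLE_iff_le_annD n D).mp hD hx
      rw [AddMonoidHom.mem_ker]
      ext m; simp [h])

theorem actQ_q (D : M →ₗ[A] N) (hD : Diff16.IsDiffOpLE A B M N n D) (x : B ⊗[A] B) (m : M) :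
    actQ D hD (show PP16.Pr n A B from q n A B x) m = act x D m := rfl

/-- the map `P^n(M) → N` attached to an operator -/
def factor (D : M →ₗ[A] N) (hD : Diff16.IsDiffOpLE A B M N n D) : PP16.PM n A B M →+ N :=
  TensorProduct.liftAddHom (actQ D hD) (fun r x m => by
    obtain ⟨x', hx'⟩ := q_surjective n A B (show PP16.P n A B from x)
    subst hx'
    have : (r • (show PP16.Pr n A B from q n A B x')) =
        (show PP16.Pr n A B from q n A B ((1 : B) ⊗ₜ[A] r * x')) := by
      rw [map_mul]; rfl
    rw [this, actQ_q, actQ_q, mul_comm, act_mul]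
    induction x' using TensorProduct.induction_on with
    | zero => simp
    | add x y hx hy => simp [map_add, hx rfl, hy rfl]
    | tmul b c => simp [smul_smul, mul_comm r c])

theorem factor_pure (D : M →ₗ[A] N) (hD : Diff16.IsDiffOpLE A B M N n D) (x : B ⊗[A] B) (m : M) :
    factor D hD (pure n A B M x m) = act x D m := by
  rw [factor, pure, TensorProduct.liftAddHom_tmul, actQ_q]

theorem factor_dM (D : M →ₗ[A] N) (hD : Diff16.IsDiffOpLE A B M N n D) (m : M) :
    factor D hD (PP16.dM n A B M m) = D m := by
  have h : PP16.dM n A B M m = pure n A B M ((1 : B) ⊗ₜ[A] (1 : B)) m := by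
    rw [pure_eq_smul, ← Algebra.TensorProduct.one_def, map_one, one_smul]
  rw [h, factor_pure, act_tmul, one_smul, one_smul]

theorem factor_smul (D : M →ₗ[A] N) (hD : Diff16.IsDiffOpLE A B M N n D) (b : B)
    (t : PP16.PM n A B M) :
    factor D hD (algebraMap B (PP16.P n A B) b • t) = b • factor D hD t := by
  induction t using TensorProduct.induction_on with
  | zero => simp
  | add x y hx hy => simp [smul_add, hx, hy]
  | tmul x m =>
    obtain ⟨x', hx'⟩ := q_surjective n A B (show PP16.P n A B from x)
    have e1 : (x ⊗ₜ[B] m : PP16.PM n A B M) = pure n A B M x' m := by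
      unfold pure; rw [hx']
    have e2 : algebraMap B (PP16.P n A B) b • pure n A B M x' m =
        pure n A B M ((b ⊗ₜ[A] (1 : B)) * x') m := by
      rw [pure_eq_smul, pure_eq_smul, smul_smul, map_mul]; rfl
    rw [e1, e2, factor_pure, factor_pure, act_mul, act_tmul, one_smul]

theorem isDiffOpLE_iff_existsUnique (D : M →ₗ[A] N) :
    Diff16.IsDiffOpLE A B M N n D ↔
      ∃! u : PP16.PM n A B M →+ N,
        (∀ (b : B) (t : PP16.PM n A B M), u (algebraMap B (PP16.P n A B) b • t) = b • u t) ∧
          ∀ m : M, u (PP16.dM n A B M m) = D m := by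
  constructor
  · intro hD
    exact ⟨factor D hD, ⟨factor_smul D hD, factor_dM D hD⟩, fun v hv =>
      pm_ext n A B M v _ hv.1 (factor_smul D hD) (fun m => by rw [hv.2, factor_dM])⟩
  · rintro ⟨u, ⟨hu, hD⟩, -⟩
    exact isDiffOpLE_of_factor D u hu hD

variable (n A B M)

/-- `P^n(M)` with its left `B`-module structure -/
def PML : Type u := PP16.PM n A B M

instance instAddCommGroupPML : AddCommGroup (PML n A B M) :=
  inferInstanceAs (AddCommGroup (PP16.PM n A B M))

instance instModulePML : Module B (PML n A B M) :=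
  Module.compHom (PP16.PM n A B M) (algebraMap B (PP16.P n A B))

instance instModuleAPML : Module A (PML n A B M) :=
  Module.compHom (PP16.PM n A B M) ((algebraMap B (PP16.P n A B)).comp (algebraMap A B))

instance instTowerPML : IsScalarTower A B (PML n A B M) :=
  IsScalarTower.of_algebraMap_smul fun _ _ => rfl

/-- the universal operator -/
def univOp : M →ₗ[A] PML n A B M where
  toFun m := PP16.dM n A B M m
  map_add' := (PP16.dM n A B M).map_add
  map_smul' a m := by
    show PP16.dM n A B M (a • m) =
      algebraMap B (PP16.P n A B) (algebraMap A B a) • PP16.dM n A B M m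
    have h := pure_tmul n A B M (1 : B) (algebraMap A B a) m
    rw [map_one, one_smul, algebraMap_smul] at h
    rw [← h, pure_eq_smul]
    congr 1
    show q n A B _ = q n A B (algebraMap A B a ⊗ₜ[A] (1 : B))
    rw [Algebra.algebraMap_eq_smul_one, TensorProduct.smul_tmul]

theorem univOp_isDiffOpLE : Diff16.IsDiffOpLE A B M (PML n A B M) n (univOp n A B M) :=
  isDiffOpLE_of_factor (univOp n A B M) (AddMonoidHom.id _) (fun _ _ => rfl) (fun _ => rfl)

theorem exists_universal :
    ∃ (P : Type u) (_ : AddCommGroup P) (_ : Module B P) (_ : Module A P) (_ : IsScalarTower A B P)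
      (D : M →ₗ[A] P), Diff16.IsDiffOpLE A B M P n D ∧
        ∀ (N : Type u) [AddCommGroup N] [Module B N] [Module A N] [IsScalarTower A B N]
          (D' : M →ₗ[A] N),
          Diff16.IsDiffOpLE A B M N n D' → ∃! α : P →ₗ[B] N, α.restrictScalars A ∘ₗ D = D' := by
  refine ⟨PML n A B M, inferInstance, inferInstance, inferInstance, inferInstance,
    univOp n A B M, univOp_isDiffOpLE n A B M, fun N _ _ _ _ D' hD' => ?_⟩
  refine ⟨{ toFun := factor D' hD', map_add' := (factor D' hD').map_add,
            map_smul' := fun b t => factor_smul D' hD' b t }, ?_, ?_⟩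
  · refine LinearMap.ext fun m => ?_
    exact factor_dM D' hD' m
  · intro β hβ
    refine LinearMap.ext fun t => ?_
    have h := pm_ext n A B M β.toAddMonoidHom (factor D' hD')
      (fun b t => β.map_smul b t) (factor_smul D' hD')
      (fun m => by rw [factor_dM]; exact LinearMap.congr_fun hβ m)
    exact DFunLike.congr_fun h t

end Groth.Agent.Diff.PM
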