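import Groth.Agent.Diff.Monomial
import Groth.Agent.Diff.PM
import Mathlib.RingTheory.Etale.Basic
import Mathlib.RingTheory.IsTensorProduct

/-!
Principal parts and differential operators along a formally étale map `B → B'`.
-/

set_option autoImplicit false
set_option linter.unusedSectionVars false

noncomputable section

namespace Groth.Agent.Diff.Etale

universe u

open scoped TensorProduct
open Groth.Agent.Diff.Basic Groth.Agent.Diff.Monomial Groth.Agent.Diff.PM

variable (n : ℕ) (A B B' : Type u) [CommRing A] [CommRing B] [CommRing B'] [Algebra A B]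
  [Algebra A B'] [Algebra B B'] [IsScalarTower A B B']

theorem map_mem_pow {R S : Type u} [CommRing R] [CommRing S] (f : R →+* S) {I : Ideal R}
    {J : Ideal S} (h : I.map f ≤ J) (k : ℕ) {x : R} (hx : x ∈ I ^ k) : f x ∈ J ^ k := by
  have h2 := Ideal.mem_map_of_mem f hx
  rw [Ideal.map_pow] at h2
  exact Ideal.pow_right_mono h k h2

theorem map_pow_eq_bot {R S : Type u} [CommRing R] [CommRing S] (f : R →+* S) {I : Ideal R}
    {k : ℕ} (h : I ^ k = ⊥) : I.map f ^ k = ⊥ := by
  rw [← Ideal.map_pow, h, Ideal.map_bot]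

theorem map_eq_zero_of_mem_pow {R S α : Type u} [CommRing R] [CommRing S] (f : R →+* S)
    (g : α → R) {I : Ideal R} (hI : Ideal.span (Set.range g) = I) {J : Ideal S}
    (h : ∀ a, f (g a) ∈ J) {k : ℕ} (hJ : J ^ k = ⊥) {x : R} (hx : x ∈ I ^ k) : f x = 0 := by
  subst hI
  have h' : (Ideal.span (Set.range g)).map f ≤ J := by
    rw [Ideal.map_span, Ideal.span_le, ← Set.range_comp, Set.range_subset_iff]
    exact h
  have := map_mem_pow f h' k hx
  rwa [hJ, Ideal.mem_bot] at this

theorem algHom_eq_zero_of_mem_pow {T R S U α : Type u} [CommRing T] [CommRing R] [CommRing S]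
    [CommRing U] [Algebra T R] [Algebra T S] [Algebra T U] (f : R →ₐ[T] S) (ε : S →ₐ[T] U)
    (g : α → R) {I : Ideal R} (hI : Ideal.span (Set.range g) = I)
    (h : ∀ a, ε (f (g a)) = 0) {k : ℕ} (hk : RingHom.ker ε.toRingHom ^ k = ⊥)
    {x : R} (hx : x ∈ I ^ k) : f x = 0 :=
  map_eq_zero_of_mem_pow f.toRingHom g hI h hk hx

/-- generic augmentation of a base change -/
def augGen {R S P : Type u} [CommRing R] [CommRing S] [CommRing P] [Algebra R S] [Algebra R P]
    (ε : P →ₐ[R] R) : S ⊗[R] P →ₐ[S] S :=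
  Algebra.TensorProduct.lift (AlgHom.id S S) ((Algebra.ofId R S).comp ε)
    (fun _ _ => Commute.all _ _)

theorem ker_augGen_pow {R S P : Type u} [CommRing R] [CommRing S] [CommRing P] [Algebra R S]
    [Algebra R P] (ε : P →ₐ[R] R) {J : Ideal P} (hε : ∀ p, p - algebraMap R P (ε p) ∈ J)
    {k : ℕ} (hJ : J ^ k = ⊥) : RingHom.ker (augGen (S := S) ε).toRingHom ^ k = ⊥ := by
  let g : P →+* S ⊗[R] P :=
    (Algebra.TensorProduct.includeRight (R := R) (A := S) (B := P)).toRingHom
  have h : ∀ t : S ⊗[R] P, t - (augGen (S := S) ε t) ⊗ₜ[R] (1 : P) ∈ J.map g := by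
    intro t
    induction t using TensorProduct.induction_on with
    | zero => simp
    | add x y hx hy =>
      rw [map_add, TensorProduct.add_tmul, add_sub_add_comm]
      exact add_mem hx hy
    | tmul b p =>
      have e : b ⊗ₜ[R] p - (augGen (S := S) ε (b ⊗ₜ[R] p)) ⊗ₜ[R] (1 : P) =
          (b ⊗ₜ[R] (1 : P)) * g (p - algebraMap R P (ε p)) := by
        have : augGen (S := S) ε (b ⊗ₜ[R] p) = ε p • b := by
          simp [augGen, Algebra.TensorProduct.lift_tmul, Algebra.smul_def, mul_comm,
            Algebra.ofId_apply]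
        rw [this, TensorProduct.smul_tmul, ← Algebra.algebraMap_eq_smul_one]
        simp [g, mul_sub, TensorProduct.tmul_sub]
      rw [e]
      exact Ideal.mul_mem_left _ _ (Ideal.mem_map_of_mem _ (hε p))
  refine le_bot_iff.mp ((Ideal.pow_right_mono (J := J.map g) ?_ _).trans
    (le_of_eq (map_pow_eq_bot g hJ)))
  intro t ht
  have := h t
  rw [show augGen (S := S) ε t = 0 from ht, TensorProduct.zero_tmul, sub_zero] at this
  exact this

theorem eq_zero_of_augGen {R S P X α : Type u} [CommRing R] [CommRing S] [CommRing P] [CommRing X]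
    [Algebra R S] [Algebra R P] [Algebra S X] (ε : P →ₐ[R] R) {J : Ideal P}
    (hε : ∀ p, p - algebraMap R P (ε p) ∈ J) {k : ℕ} (hJ : J ^ k = ⊥)
    (f : X →ₐ[S] S ⊗[R] P) (g : α → X) {I : Ideal X} (hI : Ideal.span (Set.range g) = I)
    (h : ∀ a, augGen (S := S) ε (f (g a)) = 0) {x : X} (hx : x ∈ I ^ k) : f x = 0 :=
  algHom_eq_zero_of_mem_pow f (augGen (S := S) ε) g hI h (ker_augGen_pow ε hε hJ) hx

/-- augmentation -/
def augP : PP16.P n A B →ₐ[B] B :=
  Ideal.Quotient.liftₐ ((KaehlerDifferential.ideal A B) ^ (n + 1))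
    (Algebra.TensorProduct.lift (AlgHom.id B B) (AlgHom.id A B) (fun _ _ => Commute.all _ _))
    (fun x hx => by
      have h : x ∈ KaehlerDifferential.ideal A B := Ideal.pow_le_self (Nat.succ_ne_zero n) hx
      rw [RingHom.mem_ker] at h
      rw [← h]
      clear hx h
      induction x using TensorProduct.induction_on with
      | zero => simp
      | tmul b c => simp [Algebra.TensorProduct.lift_tmul]
      | add x y hx hy => rw [map_add, map_add, hx, hy])

theorem augP_q_tmul (b c : B) : augP n A B (q n A B (b ⊗ₜ[A] c)) = b * c := rfl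

theorem sub_augP_mem (p : PP16.P n A B) :
    p - algebraMap B (PP16.P n A B) (augP n A B p) ∈
      (KaehlerDifferential.ideal A B).map (q n A B) := by
  obtain ⟨x, rfl⟩ := q_surjective n A B p
  induction x using TensorProduct.induction_on with
  | zero => simp
  | tmul b c =>
    rw [augP_q_tmul]
    show q n A B (b ⊗ₜ[A] c) - q n A B ((b * c) ⊗ₜ[A] (1 : B)) ∈ _
    rw [← map_sub]
    refine Ideal.mem_map_of_mem _ ?_
    simp [RingHom.mem_ker]
  | add x y hx hy =>
    rw [map_add, map_add, map_add, add_sub_add_comm]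
    exact add_mem hx hy

theorem aug_pow : (KaehlerDifferential.ideal A B).map (q n A B) ^ (n + 1) = ⊥ :=
  (Ideal.map_pow _ _ _).symm.trans (Ideal.map_quotient_self _)

/-- `B' ⊗[B] P^n`, to be used with the algebra structure from the second factor -/
def Tr : Type u := B' ⊗[B] PP16.P n A B

instance instCommRingTr : CommRing (Tr n A B B') :=
  inferInstanceAs (CommRing (B' ⊗[B] PP16.P n A B))

/-- the second-factor map -/
def rightMap : B →+* Tr n A B B' :=
  (Algebra.TensorProduct.includeRight (R := B) (A := B') (B := PP16.P n A B)).toRingHom.comp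
    (PP16.dn n A B).toRingHom

instance instAlgebraTr : Algebra B (Tr n A B B') := (rightMap n A B B').toAlgebra

/-- augmentation as a ring map -/
def augT0 : B' ⊗[B] PP16.P n A B →ₐ[B'] B' :=
  augGen (augP n A B)

/-- augmentation as an algebra map for the second-factor structure -/
def augT : Tr n A B B' →ₐ[B] B' :=
  { (augT0 n A B B').toRingHom with
    commutes' := fun b => by
      show augT0 n A B B' ((1 : B') ⊗ₜ[B] q n A B ((1 : B) ⊗ₜ[A] b)) = algebraMap B B' b
      simp [augT0, augGen, Algebra.TensorProduct.lift_tmul, augP_q_tmul, Algebra.ofId_apply] }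

theorem augT_surjective : Function.Surjective (augT n A B B') := fun x =>
  ⟨(show Tr n A B B' from x ⊗ₜ[B] (1 : PP16.P n A B)), by
    show augT0 n A B B' (x ⊗ₜ[B] (1 : PP16.P n A B)) = x
    simp [augT0, augGen, Algebra.TensorProduct.lift_tmul]⟩

theorem ker_augT_pow : RingHom.ker (augT0 n A B B').toRingHom ^ (n + 1) = ⊥ :=
  ker_augGen_pow (augP n A B) (sub_augP_mem n A B) (aug_pow n A B)

variable [Algebra.FormallyEtale B B']

/-- the extension of `d^n` to `B'` -/
def rho : B' →ₐ[B] Tr n A B B' :=
  Algebra.FormallySmooth.liftOfSurjective (AlgHom.id B B') (augT n A B B')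
    (augT_surjective n A B B') ⟨n + 1, ker_augT_pow n A B B'⟩

theorem augT_rho (x : B') : augT n A B B' (rho n A B B' x) = x :=
  Algebra.FormallySmooth.liftOfSurjective_apply (AlgHom.id B B') (augT n A B B')
    (augT_surjective n A B B') ⟨n + 1, ker_augT_pow n A B B'⟩ x

/-- `rho` into the tensor product -/
def rho' : B' →+* B' ⊗[B] PP16.P n A B := (rho n A B B').toRingHom

theorem augT0_rho' (x : B') : augT0 n A B B' (rho' n A B B' x) = x := augT_rho n A B B' x

theorem rho'_algebraMap (b : B) :
    rho' n A B B' (algebraMap B B' b) = (1 : B') ⊗ₜ[B] PP16.dn n A B b :=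
  (rho n A B B').commutes b

/-- `rho` as an `A`-algebra map -/
def rhoA : B' →ₐ[A] B' ⊗[B] PP16.P n A B :=
  { rho' n A B B' with
    commutes' := fun a => by
      show rho' n A B B' (algebraMap A B' a) = _
      rw [IsScalarTower.algebraMap_apply A B B', rho'_algebraMap]
      rw [Algebra.TensorProduct.algebraMap_apply, IsScalarTower.algebraMap_apply A B B',
        Algebra.algebraMap_eq_smul_one (R := B) (A := B'), TensorProduct.smul_tmul]
      congr 1
      rw [← Algebra.algebraMap_eq_smul_one, AlgHom.commutes, IsScalarTower.algebraMap_apply A B] }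

/-- `B' ⊗[A] B' → B' ⊗[B] P^n` -/
def mu : B' ⊗[A] B' →ₐ[B'] B' ⊗[B] PP16.P n A B :=
  Algebra.TensorProduct.lift (Algebra.ofId B' _) (rhoA n A B B') (fun x y => (mul_comm (G := B' ⊗[B] PP16.P n A B) _ _ :))

theorem mu_tmul (a c : B') :
    mu n A B B' (a ⊗ₜ[A] c) = (a ⊗ₜ[B] (1 : PP16.P n A B)) * rho' n A B B' c := by
  simp [mu, Algebra.TensorProduct.lift_tmul, Algebra.ofId_apply,
    Algebra.TensorProduct.algebraMap_apply]
  rfl

theorem mu_mem {x : B' ⊗[A] B'} (hx : x ∈ KaehlerDifferential.ideal A B' ^ (n + 1)) :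
    mu n A B B' x = 0 := by
  refine eq_zero_of_augGen (augP n A B) (sub_augP_mem n A B) (aug_pow n A B) (mu n A B B')
    (delta A) span_range_delta (fun a => ?_) hx
  show augT0 n A B B' (mu n A B B' (delta A a)) = 0
  rw [delta, map_sub, map_sub, mu_tmul, mu_tmul, map_mul, map_mul, augT0_rho', augT0_rho']
  simp [augT0, augGen, Algebra.TensorProduct.lift_tmul]

/-- `P^n_{B'/A} → B' ⊗[B] P^n_{B/A}` -/
def muBar : PP16.P n A B' →ₐ[B'] B' ⊗[B] PP16.P n A B :=
  Ideal.Quotient.liftₐ ((KaehlerDifferential.ideal A B') ^ (n + 1)) (mu n A B B')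
    (fun _ hx => mu_mem n A B B' hx)

theorem muBar_q (x : B' ⊗[A] B') : muBar n A B B' (q n A B' x) = mu n A B B' x := rfl

/-- functoriality map as a `B`-algebra map -/
def mapB : PP16.P n A B →ₐ[B] PP16.P n A B' :=
  { (PP16.map n A B A B').toRingHom with
    commutes' := fun b => by
      show PP16.map n A B A B' (algebraMap B (PP16.P n A B) b) = _
      rw [PP16.map_algebraMap, ← IsScalarTower.algebraMap_apply] }

/-- `B' ⊗[B] P^n_{B/A} → P^n_{B'/A}` -/
def nu : B' ⊗[B] PP16.P n A B →ₐ[B'] PP16.P n A B' :=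
  Algebra.TensorProduct.lift (Algebra.ofId B' _) (mapB n A B B') (fun _ _ => Commute.all _ _)

theorem muBar_nu (t : B' ⊗[B] PP16.P n A B) : muBar n A B B' (nu n A B B' t) = t := by
  induction t using TensorProduct.induction_on with
  | zero => simp
  | add x y hx hy => rw [map_add, map_add, hx, hy]
  | tmul b p =>
    obtain ⟨x, rfl⟩ := q_surjective n A B p
    induction x using TensorProduct.induction_on with
    | zero => simp
    | add x y hx hy => rw [map_add, TensorProduct.tmul_add, map_add, map_add, hx, hy]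
    | tmul a c =>
      have e : nu n A B B' (b ⊗ₜ[B] q n A B (a ⊗ₜ[A] c)) =
          q n A B' ((b * algebraMap B B' a) ⊗ₜ[A] algebraMap B B' c) := by
        rw [nu, Algebra.TensorProduct.lift_tmul]
        show q n A B' (b ⊗ₜ[A] (1 : B')) * q n A B' (PP16.tensorMap A B A B' (a ⊗ₜ[A] c)) = _
        rw [PP16.tensorMap_tmul, ← map_mul, Algebra.TensorProduct.tmul_mul_tmul, one_mul]
      rw [e, muBar_q, mu_tmul, rho'_algebraMap, Algebra.TensorProduct.tmul_mul_tmul, mul_one]
      rw [mul_comm b, ← Algebra.smul_def, TensorProduct.smul_tmul, one_mul, Algebra.smul_def]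
      congr 1
      show q n A B (a ⊗ₜ[A] (1 : B)) * q n A B ((1 : B) ⊗ₜ[A] c) = q n A B (a ⊗ₜ[A] c)
      rw [← map_mul, Algebra.TensorProduct.tmul_mul_tmul, mul_one, one_mul]

/-- the images of elements of `B` -/
def zB : B → B' := fun b => algebraMap B B' b

theorem gen_zB : Gen A (zB B B') := by
  have hsub : Subsingleton (KaehlerDifferential B B') := inferInstance
  have hr : LinearMap.range (KaehlerDifferential.mapBaseChange A B B') = ⊤ := by
    rw [KaehlerDifferential.range_mapBaseChange, eq_top_iff]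
    intro x _
    exact Subsingleton.elim _ _
  rw [Gen, eq_top_iff, ← hr]
  rintro _ ⟨t, rfl⟩
  induction t using TensorProduct.induction_on with
  | zero => simp
  | add x y hx hy => rw [map_add]; exact add_mem hx hy
  | tmul b w =>
    rw [KaehlerDifferential.mapBaseChange_tmul]
    refine Submodule.smul_mem _ _ ?_
    have hw : w ∈ Submodule.span B (Set.range (KaehlerDifferential.D A B)) := by
      rw [KaehlerDifferential.span_range_derivation]; trivial
    induction hw using Submodule.span_induction with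
    | mem w hw =>
      obtain ⟨s, rfl⟩ := hw
      rw [KaehlerDifferential.map_D]
      exact Submodule.subset_span ⟨s, rfl⟩
    | zero => simp
    | add x y _ _ hx hy => rw [map_add]; exact add_mem hx hy
    | smul c x _ hx =>
      rw [map_smul, ← algebraMap_smul B' c (KaehlerDifferential.map A A B B' x)]
      exact Submodule.smul_mem _ _ hx

theorem nu_surjective : Function.Surjective (nu n A B B') := by
  intro p
  obtain ⟨x, rfl⟩ := q_surjective n A B' p
  obtain ⟨P, -, hP⟩ := exists_sub_mem (gen_zB A B B') 0 x (by simp) (n + 1)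
  have h : q n A B' x = q n A B' (theta A (zB B B') P) := Ideal.Quotient.eq.mpr hP
  rw [h]
  clear hP h
  induction P using MvPolynomial.induction_on with
  | C c =>
    exact ⟨algebraMap B' _ c, by rw [AlgHom.commutes]; simp [theta]; rfl⟩
  | add P Q hP hQ =>
    obtain ⟨a, ha⟩ := hP
    obtain ⟨b, hb⟩ := hQ
    exact ⟨a + b, by rw [map_add, map_add, map_add, ha, hb]⟩
  | mul_X P i hP =>
    obtain ⟨a, ha⟩ := hP
    refine ⟨a * ((1 : B') ⊗ₜ[B] q n A B (delta A i)), ?_⟩
    rw [map_mul, ha, map_mul, map_mul]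
    congr 1
    rw [nu, Algebra.TensorProduct.lift_tmul, map_one, one_mul]
    show q n A B' (PP16.tensorMap A B A B' (delta A i)) = _
    simp [delta, theta, zB, PP16.tensorMap_tmul]

theorem nu_bijective : Function.Bijective (nu n A B B') :=
  ⟨fun x y h => by rw [← muBar_nu n A B B' x, h, muBar_nu], nu_surjective n A B B'⟩

section ops

variable {A B B'}
variable {M N : Type u} [AddCommGroup M] [Module A M] [Module B M] [IsScalarTower A B M]
  [AddCommGroup N] [Module A N] [Module B N] [IsScalarTower A B N]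

/-- an operator extended to act through `B' ⊗[B] P^n` -/
def extAct (D : M →ₗ[A] N) (hD : Diff16.IsDiffOpLE A B M N n D) :
    B' ⊗[B] PP16.P n A B →+ (M →+ B' ⊗[B] N) :=
  TensorProduct.liftAddHom
    { toFun := fun b => (AddMonoidHom.compHom (TensorProduct.mk B B' N b).toAddMonoidHom).comp
        (actQ D hD)
      map_zero' := by ext p m; exact TensorProduct.zero_tmul _ _
      map_add' := fun b c => by
        ext p m
        exact TensorProduct.add_tmul b c _ }
    (fun r b p => by
      obtain ⟨x, rfl⟩ := q_surjective n A B p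
      ext m
      show (r • b) ⊗ₜ[B] _ = b ⊗ₜ[B] _
      rw [TensorProduct.smul_tmul]
      congr 1
      have : (r • q n A B x) = q n A B ((r ⊗ₜ[A] (1 : B)) * x) := by
        rw [Algebra.smul_def, map_mul]; rfl
      rw [this]
      show r • act x D m = act ((r ⊗ₜ[A] (1 : B)) * x) D m
      rw [act_mul, act_tmul, one_smul])

theorem extAct_tmul (D : M →ₗ[A] N) (hD : Diff16.IsDiffOpLE A B M N n D) (b : B')
    (x : B ⊗[A] B) (m : M) :
    extAct n D hD (b ⊗ₜ[B] q n A B x) m = b ⊗ₜ[B] act x D m := rfl

theorem extAct_right (D : M →ₗ[A] N) (hD : Diff16.IsDiffOpLE A B M N n D) (s : B)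
    (t : B' ⊗[B] PP16.P n A B) (m : M) :
    extAct n D hD (((1 : B') ⊗ₜ[B] PP16.dn n A B s) * t) m = extAct n D hD t (s • m) := by
  induction t using TensorProduct.induction_on with
  | zero => simp
  | add x y hx hy =>
    rw [mul_add, map_add, map_add, AddMonoidHom.add_apply, AddMonoidHom.add_apply, hx, hy]
  | tmul b p =>
    obtain ⟨x, rfl⟩ := q_surjective n A B p
    rw [Algebra.TensorProduct.tmul_mul_tmul, one_mul]
    show extAct n D hD (b ⊗ₜ[B] (q n A B ((1 : B) ⊗ₜ[A] s) * q n A B x)) m = _
    rw [← map_mul, extAct_tmul, extAct_tmul, mul_comm, act_mul]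
    congr 1
    induction x using TensorProduct.induction_on with
    | zero => simp
    | tmul c d => simp [smul_smul, mul_comm d s]
    | add x y hx hy => simp [map_add, hx, hy]

theorem extAct_left (D : M →ₗ[A] N) (hD : Diff16.IsDiffOpLE A B M N n D) (a : B')
    (t : B' ⊗[B] PP16.P n A B) (m : M) :
    extAct n D hD ((a ⊗ₜ[B] (1 : PP16.P n A B)) * t) m = a • extAct n D hD t m := by
  induction t using TensorProduct.induction_on with
  | zero => simp
  | add x y hx hy =>
    rw [mul_add, map_add, map_add, AddMonoidHom.add_apply, AddMonoidHom.add_apply, hx, hy,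
      smul_add]
  | tmul b p =>
    obtain ⟨x, rfl⟩ := q_surjective n A B p
    rw [Algebra.TensorProduct.tmul_mul_tmul, one_mul, extAct_tmul, extAct_tmul,
      TensorProduct.smul_tmul', smul_eq_mul]

/-- the extended operator, additive -/
def extFun (D : M →ₗ[A] N) (hD : Diff16.IsDiffOpLE A B M N n D) :
    B' ⊗[B] M →+ B' ⊗[B] N :=
  TensorProduct.liftAddHom ((extAct n D hD).comp (rho' n A B B').toAddMonoidHom)
    (fun r b m => by
      show extAct n D hD (rho' n A B B' (r • b)) m = extAct n D hD (rho' n A B B' b) (r • m)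
      rw [Algebra.smul_def, map_mul, rho'_algebraMap, extAct_right])

theorem extFun_tmul (D : M →ₗ[A] N) (hD : Diff16.IsDiffOpLE A B M N n D) (b : B') (m : M) :
    extFun n D hD (b ⊗ₜ[B] m) = extAct n D hD (rho' n A B B' b) m := rfl

theorem extFun_one (D : M →ₗ[A] N) (hD : Diff16.IsDiffOpLE A B M N n D) (m : M) :
    extFun n D hD ((1 : B') ⊗ₜ[B] m) = (1 : B') ⊗ₜ[B] D m := by
  rw [extFun_tmul, map_one, Algebra.TensorProduct.one_def]
  show extAct n D hD ((1 : B') ⊗ₜ[B] q n A B ((1 : B) ⊗ₜ[A] (1 : B))) m = _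
  rw [extAct_tmul, act_tmul, one_smul, one_smul]

/-- the extended operator -/
def extOp (D : M →ₗ[A] N) (hD : Diff16.IsDiffOpLE A B M N n D) :
    B' ⊗[B] M →ₗ[A] B' ⊗[B] N where
  toFun := extFun n D hD
  map_add' := map_add _
  map_smul' a t := by
    induction t using TensorProduct.induction_on with
    | zero => simp
    | add x y hx hy => simp only [smul_add, map_add, hx, hy]
    | tmul b m =>
      rw [RingHom.id_apply, TensorProduct.smul_tmul', extFun_tmul, extFun_tmul]
      have : rho' n A B B' (a • b) =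
          ((algebraMap A B' a) ⊗ₜ[B] (1 : PP16.P n A B)) * rho' n A B B' b := by
        rw [Algebra.smul_def, map_mul]
        congr 1
        exact (rhoA n A B B').commutes a
      rw [this, extAct_left, algebraMap_smul]

theorem act_extOp (D : M →ₗ[A] N) (hD : Diff16.IsDiffOpLE A B M N n D) (x : B' ⊗[A] B')
    (b : B') (m : M) :
    act x (extOp n D hD) (b ⊗ₜ[B] m) =
      extAct n D hD (mu n A B B' x * rho' n A B B' b) m := by
  induction x using TensorProduct.induction_on with
  | zero => simp
  | add x y hx hy => simp [map_add, add_mul, hx, hy]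
  | tmul a c =>
    rw [act_tmul, mu_tmul, mul_assoc, ← map_mul, extAct_left, TensorProduct.smul_tmul', smul_eq_mul]
    rfl

theorem isDiffOpLE_extOp (D : M →ₗ[A] N) (hD : Diff16.IsDiffOpLE A B M N n D) :
    Diff16.IsDiffOpLE A B' (B' ⊗[B] M) (B' ⊗[B] N) n (extOp n D hD) := by
  rw [isDiffOpLE_iff_le_annD]
  intro x hx
  rw [mem_annD]
  refine LinearMap.ext fun t => ?_
  induction t using TensorProduct.induction_on with
  | zero => simp
  | add x y hx hy => rw [map_add, hx, hy, map_add]
  | tmul b m => rw [act_extOp, mu_mem n A B B' hx, zero_mul, map_zero]; simp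

variable {N' : Type u} [AddCommGroup N'] [Module A N'] [Module B' N'] [IsScalarTower A B' N']

theorem eq_zero_of_vanish {k : ℕ} (F : B' ⊗[B] M →ₗ[A] N')
    (hF : Diff16.IsDiffOpLE A B' (B' ⊗[B] M) N' k F)
    (h : ∀ m, F ((1 : B') ⊗ₜ[B] m) = 0) : F = 0 := by
  refine LinearMap.ext fun t => ?_
  induction t using TensorProduct.induction_on with
  | zero => simp
  | add x y hx hy => rw [map_add, hx, hy, map_add]
  | tmul b m =>
    obtain ⟨P, -, hP⟩ := exists_sub_mem (gen_zB A B B') 0 ((1 : B') ⊗ₜ[A] b) (by simp) (k + 1)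
    have h1 : act ((1 : B') ⊗ₜ[A] b - theta A (zB B B') P) F = 0 :=
      (isDiffOpLE_iff_le_annD k F).mp hF hP
    have h2 : ∀ (Q : MvPolynomial B B') (m : M),
        act (theta A (zB B B') Q) F ((1 : B') ⊗ₜ[B] m) = 0 := by
      intro Q
      induction Q using MvPolynomial.induction_on with
      | C c =>
        intro m
        rw [theta, MvPolynomial.aeval_C, Algebra.TensorProduct.algebraMap_apply, act_tmul,
          one_smul, h, smul_zero]
      | add P Q hP hQ => intro m; simp [map_add, hP m, hQ m]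
      | mul_X P i hP =>
        intro m
        rw [map_mul, mul_comm, act_mul]
        rw [theta, MvPolynomial.aeval_X, act_delta_apply]
        have e : zB B B' i • ((1 : B') ⊗ₜ[B] m) = (1 : B') ⊗ₜ[B] (i • m) := by
          rw [TensorProduct.smul_tmul', smul_eq_mul, mul_one, zB,
            Algebra.algebraMap_eq_smul_one, TensorProduct.smul_tmul]
        rw [e]
        have := hP (i • m)
        rw [theta] at this
        rw [this]
        have := hP m
        rw [theta] at this
        rw [this, smul_zero, sub_zero]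
    have h3 := LinearMap.congr_fun h1 ((1 : B') ⊗ₜ[B] m)
    rw [map_sub, LinearMap.sub_apply, LinearMap.sub_apply, h2, sub_zero, act_tmul, one_smul,
      TensorProduct.smul_tmul', smul_eq_mul, mul_one, LinearMap.zero_apply] at h3
    simpa using h3

theorem ext_of_agree {k : ℕ} (F G : B' ⊗[B] M →ₗ[A] N')
    (hF : Diff16.IsDiffOpLE A B' (B' ⊗[B] M) N' k F)
    (hG : Diff16.IsDiffOpLE A B' (B' ⊗[B] M) N' k G)
    (h : ∀ m, F ((1 : B') ⊗ₜ[B] m) = G ((1 : B') ⊗ₜ[B] m)) : F = G := by
  rw [← sub_eq_zero]
  refine eq_zero_of_vanish (k := k) _ ?_ fun m => by simp [h m]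
  rw [isDiffOpLE_iff_le_annD] at *
  intro x hx
  have h1 : act x F = 0 := hF hx
  have h2 : act x G = 0 := hG hx
  simp [mem_annD, map_sub, h1, h2]

theorem existsUnique_ext (D : M →ₗ[A] N) (hD : Diff16.IsDiffOpLE A B M N n D) :
    ∃! D' : B' ⊗[B] M →ₗ[A] B' ⊗[B] N,
      Diff16.IsDiffOpLE A B' (B' ⊗[B] M) (B' ⊗[B] N) n D' ∧
        D' ∘ₗ (TensorProduct.mk B B' M 1).restrictScalars A =
          (TensorProduct.mk B B' N 1).restrictScalars A ∘ₗ D := by
  refine ⟨extOp n D hD, ⟨isDiffOpLE_extOp n D hD, LinearMap.ext fun m => extFun_one n D hD m⟩, ?_⟩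
  rintro G ⟨hG, hG'⟩
  refine ext_of_agree G _ hG (isDiffOpLE_extOp n D hD) fun m => ?_
  exact (LinearMap.congr_fun hG' m).trans (extFun_one n D hD m).symm

end ops

end Groth.Agent.Diff.Etale
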