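import Groth.Prelude.Def_PP16
import Mathlib.RingTheory.FiniteType
import Mathlib.RingTheory.FinitePresentation
import Mathlib.RingTheory.IntegralClosure.IsIntegralClosure.Basic
import Mathlib.RingTheory.Finiteness.Ideal
import Mathlib.RingTheory.FiniteStability
import Mathlib.RingTheory.Finiteness.ModuleFinitePresentation
import Mathlib.RingTheory.Unramified.Finite
import Mathlib.Algebra.Module.FinitePresentation
import Mathlib.RingTheory.Kaehler.Basic

set_option autoImplicit false

namespace Groth.Agent.Diff.Finite

universe u

open scoped TensorProduct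

variable (n : ℕ) (A B : Type u) [CommRing A] [CommRing B] [Algebra A B]

theorem isIntegral : Algebra.IsIntegral B (PP16.P n A B) := by
  refine ⟨fun x => ?_⟩
  obtain ⟨x, rfl⟩ := Ideal.Quotient.mk_surjective x
  let b := Algebra.TensorProduct.lmul' (S := B) A x
  let y := x - b ⊗ₜ[A] (1 : B)
  have hy : y ∈ KaehlerDifferential.ideal A B := by
    simp [y, b, RingHom.mem_ker]
  have hnil : IsNilpotent (Ideal.Quotient.mk ((KaehlerDifferential.ideal A B) ^ (n + 1)) y) := by
    refine ⟨n + 1, ?_⟩
    rw [← map_pow, Ideal.Quotient.eq_zero_iff_mem]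
    exact Ideal.pow_mem_pow hy _
  have h1 : IsIntegral B (Ideal.Quotient.mk ((KaehlerDifferential.ideal A B) ^ (n + 1)) y) := by
    obtain ⟨k, hk⟩ := hnil
    refine IsIntegral.of_pow (Nat.succ_pos k) ?_
    rw [pow_succ (Ideal.Quotient.mk ((KaehlerDifferential.ideal A B) ^ (n + 1)) y) k, hk, zero_mul]
    exact isIntegral_zero
  have hx : Ideal.Quotient.mk ((KaehlerDifferential.ideal A B) ^ (n + 1)) x =
      Ideal.Quotient.mk _ y + algebraMap B (PP16.P n A B) b := by
    show _ = _ + Ideal.Quotient.mk _ (b ⊗ₜ[A] (1 : B))
    rw [← map_add, sub_add_cancel]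
  rw [hx]
  exact h1.add isIntegral_algebraMap

theorem finite [Algebra.FiniteType A B] : Module.Finite B (PP16.P n A B) := by
  have := isIntegral n A B
  exact Algebra.IsIntegral.finite

theorem finitePresentation [Algebra.FinitePresentation A B] :
    Module.FinitePresentation B (PP16.P n A B) := by
  have := finite n A B
  have h : Algebra.FinitePresentation B (PP16.P n A B) := by
    refine Algebra.FinitePresentation.quotient (Submodule.FG.pow ?_ _)
    exact KaehlerDifferential.ideal_fg A B
  exact Module.FinitePresentation.of_finite_of_finitePresentation B (PP16.P n A B)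

end Groth.Agent.Diff.Finite
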