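import Groth.Agent.Diff.Basic
import Groth.Prelude.Def_PP16
import Mathlib.LinearAlgebra.TensorProduct.RightExactness

/-!
Kernels of the functoriality maps of principal parts.
-/

set_option autoImplicit false
set_option linter.unusedSectionVars false

noncomputable section

namespace Groth.Agent.Diff.Kernel

universe u

open scoped TensorProduct
open Groth.Agent.Diff.Basic

/-- a surjection carrying `I` onto `I'` has the expected kernel modulo powers -/
theorem ker_quotient_pow {R S : Type u} [CommRing R] [CommRing S] {I : Ideal R} {I' : Ideal S}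
    (f : R →+* S) (hf : Function.Surjective f) (hI : I.map f = I') (k : ℕ)
    (F : R ⧸ I ^ k →+* S ⧸ I' ^ k)
    (hF : ∀ x, F (Ideal.Quotient.mk (I ^ k) x) = Ideal.Quotient.mk (I' ^ k) (f x)) :
    Function.Surjective F ∧ RingHom.ker F = (RingHom.ker f).map (Ideal.Quotient.mk (I ^ k)) := by
  subst hI
  refine ⟨fun y => ?_, le_antisymm (fun x hx => ?_) ?_⟩
  · obtain ⟨y, rfl⟩ := Ideal.Quotient.mk_surjective y
    obtain ⟨x, rfl⟩ := hf y
    exact ⟨_, hF x⟩
  · obtain ⟨x, rfl⟩ := Ideal.Quotient.mk_surjective x
    rw [RingHom.mem_ker, hF, Ideal.Quotient.eq_zero_iff_mem, ← Ideal.map_pow,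
      Ideal.mem_map_iff_of_surjective f hf] at hx
    obtain ⟨z, hz, hzx⟩ := hx
    have hk : Ideal.Quotient.mk (I ^ k) z = 0 := Ideal.Quotient.eq_zero_iff_mem.mpr hz
    have : Ideal.Quotient.mk (I ^ k) x = Ideal.Quotient.mk (I ^ k) (x - z) := by
      rw [map_sub, hk, sub_zero]
    rw [this]
    exact Ideal.mem_map_of_mem _ (by rw [RingHom.mem_ker, map_sub, hzx, sub_self])
  · rw [Ideal.map_le_iff_le_comap]
    intro x hx
    rw [Ideal.mem_comap, RingHom.mem_ker, hF, hx, map_zero]

section functorial

variable (A B A' B' : Type u) [CommRing A] [CommRing B] [Algebra A B]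
  [CommRing A'] [CommRing B'] [Algebra A' B'] [Algebra A A'] [Algebra B B'] [Algebra A B']
  [IsScalarTower A A' B'] [IsScalarTower A B B']

theorem tensorMap_delta (b : B) :
    PP16.tensorMap A B A' B' (delta A b) = delta A' (algebraMap B B' b) := by
  simp [delta, PP16.tensorMap_tmul]

theorem tensorMap_surjective (hB : Function.Surjective (algebraMap B B')) :
    Function.Surjective (PP16.tensorMap A B A' B') := by
  intro y
  induction y using TensorProduct.induction_on with
  | zero => exact ⟨0, map_zero _⟩
  | tmul b c =>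
    obtain ⟨b, rfl⟩ := hB b
    obtain ⟨c, rfl⟩ := hB c
    exact ⟨b ⊗ₜ c, PP16.tensorMap_tmul A B A' B' b c⟩
  | add x y hx hy =>
    obtain ⟨a, ha⟩ := hx
    obtain ⟨b, hb⟩ := hy
    exact ⟨a + b, by rw [map_add, ha, hb]⟩

theorem ideal_map_tensorMap (hB : Function.Surjective (algebraMap B B')) :
    (KaehlerDifferential.ideal A B).map (PP16.tensorMap A B A' B').toRingHom =
      KaehlerDifferential.ideal A' B' := by
  refine le_antisymm (PP16.ideal_map_tensorMap_le A B A' B') ?_
  refine span_range_delta.ge.trans ?_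
  rw [Ideal.span_le, Set.range_subset_iff]
  intro b
  obtain ⟨b, rfl⟩ := hB b
  rw [← tensorMap_delta A B A' B']
  exact Ideal.mem_map_of_mem (PP16.tensorMap A B A' B').toRingHom (delta_mem b)

theorem map_surjective_ker (n : ℕ) (hB : Function.Surjective (algebraMap B B')) :
    Function.Surjective (PP16.map n A B A' B') ∧
      RingHom.ker (PP16.map n A B A' B') =
        (RingHom.ker (PP16.tensorMap A B A' B')).map
          (Ideal.Quotient.mk ((KaehlerDifferential.ideal A B) ^ (n + 1))) :=
  ker_quotient_pow (PP16.tensorMap A B A' B').toRingHom (tensorMap_surjective A B A' B' hB)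
    (ideal_map_tensorMap A B A' B' hB) (n + 1) (PP16.map n A B A' B').toRingHom (fun _ => rfl)

end functorial

theorem tensorMap_self_eq_map (A B B' : Type u) [CommRing A] [CommRing B] [Algebra A B]
    [CommRing B'] [Algebra A B'] [Algebra B B'] [IsScalarTower A B B'] :
    PP16.tensorMap A B A B' =
      Algebra.TensorProduct.map (IsScalarTower.toAlgHom A B B') (IsScalarTower.toAlgHom A B B') :=
  Algebra.TensorProduct.ext' fun b c => by simp [PP16.tensorMap_tmul]

section tower

variable (A B C : Type u) [CommRing A] [CommRing B] [CommRing C]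
  [Algebra A B] [Algebra B C] [Algebra A C] [IsScalarTower A B C]

/-- the generators of the kernel of `C ⊗[A] C → C ⊗[B] C` -/
def towerKer : Ideal (C ⊗[A] C) :=
  Ideal.span (Set.range fun b => delta A (algebraMap B C b))

theorem ker_tensorMap_tower :
    RingHom.ker (PP16.tensorMap A C B C) = towerKer A B C := by
  refine le_antisymm ?_ ?_
  · let K := towerKer A B C
    let gL : C →ₐ[B] (C ⊗[A] C) ⧸ K := IsScalarTower.toAlgHom B C _
    let gR : C →ₐ[B] (C ⊗[A] C) ⧸ K :=
      { (Ideal.Quotient.mk K).comp
          (Algebra.TensorProduct.includeRight (R := A) (A := C) (B := C)).toRingHom with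
        commutes' := fun b => by
          show Ideal.Quotient.mk K ((1 : C) ⊗ₜ[A] algebraMap B C b) =
            Ideal.Quotient.mk K (algebraMap B C b ⊗ₜ[A] (1 : C))
          rw [Ideal.Quotient.eq]
          exact Ideal.subset_span ⟨b, rfl⟩ }
    let g : C ⊗[B] C →ₐ[B] (C ⊗[A] C) ⧸ K :=
      Algebra.TensorProduct.lift gL gR (fun x y => Commute.all _ _)
    have hg : ∀ x, g (PP16.tensorMap A C B C x) = Ideal.Quotient.mk K x := by
      intro x
      induction x using TensorProduct.induction_on with
      | zero => simp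
      | add x y hx hy => rw [map_add, map_add, map_add, hx, hy]
      | tmul a c =>
        rw [PP16.tensorMap_tmul, Algebra.TensorProduct.lift_tmul]
        show Ideal.Quotient.mk K (a ⊗ₜ[A] (1 : C)) * Ideal.Quotient.mk K ((1 : C) ⊗ₜ[A] c) = _
        rw [← map_mul, Algebra.TensorProduct.tmul_mul_tmul, mul_one, one_mul]
    intro x hx
    have h := hg x
    rw [show PP16.tensorMap A C B C x = 0 from hx, map_zero] at h
    exact Ideal.Quotient.eq_zero_iff_mem.mp h.symm
  · rw [towerKer, Ideal.span_le, Set.range_subset_iff]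
    intro b
    rw [SetLike.mem_coe, RingHom.mem_ker]
    simp [delta, PP16.tensorMap_tmul, Algebra.algebraMap_eq_smul_one, TensorProduct.smul_tmul]

theorem map_tower (n : ℕ) :
    Function.Surjective (PP16.map n A C B C) ∧
      RingHom.ker (PP16.map n A C B C) = (PP16.augIdeal n A B).map (PP16.map n A B A C) := by
  have h := map_surjective_ker A C B C n (fun x => ⟨x, rfl⟩)
  refine ⟨h.1, ?_⟩
  rw [h.2, ker_tensorMap_tower]
  have e1 : PP16.augIdeal n A B = Ideal.span (Set.range fun b : B =>
      Ideal.Quotient.mk ((KaehlerDifferential.ideal A B) ^ (n + 1)) (delta A b)) := by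
    show Ideal.map _ _ = _
    refine le_antisymm ((Ideal.map_mono span_range_delta.ge).trans ?_) ?_
    · rw [Ideal.map_span, ← Set.range_comp]
      exact le_refl _
    · rw [Ideal.span_le, Set.range_subset_iff]
      exact fun b => Ideal.mem_map_of_mem _ (delta_mem b)
  rw [e1, Ideal.map_span, towerKer, Ideal.map_span, ← Set.range_comp, ← Set.range_comp]
  refine congrArg Ideal.span (congrArg Set.range (funext fun b => ?_))
  simp only [Function.comp_apply]
  rw [← tensorMap_delta A B A C]
  rfl

end tower

section quotient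

variable (n : ℕ) (A B : Type u) [CommRing A] [CommRing B] [Algebra A B] (K : Ideal B)

theorem map_quotient :
    Function.Surjective (PP16.map n A B A (B ⧸ K)) ∧
      RingHom.ker (PP16.map n A B A (B ⧸ K)) =
        K.map (algebraMap B (PP16.P n A B)) ⊔ K.map (PP16.dn n A B) := by
  have hB : Function.Surjective (algebraMap B (B ⧸ K)) := Ideal.Quotient.mk_surjective
  have h := map_surjective_ker A B A (B ⧸ K) n hB
  refine ⟨h.1, ?_⟩
  have hk : RingHom.ker (IsScalarTower.toAlgHom A B (B ⧸ K)) = K := by
    ext x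
    exact Ideal.Quotient.eq_zero_iff_mem
  rw [h.2, tensorMap_self_eq_map, Algebra.TensorProduct.map_ker _ _ hB hB, hk, Ideal.map_sup]
  congr 1
  · exact Ideal.map_map _ _
  · exact Ideal.map_map _ _

end quotient

section section_

variable (n : ℕ) (A B : Type u) [CommRing A] [CommRing B] [Algebra A B] (g : B →ₐ[A] A)

/-- `b ⊗ c ↦ g b • c` -/
def phi : B ⊗[A] B →ₐ[A] B :=
  Algebra.TensorProduct.lift ((Algebra.ofId A B).comp g) (AlgHom.id A B) (fun _ _ => Commute.all _ _)

theorem phi_tmul (b c : B) : phi A B g (b ⊗ₜ[A] c) = algebraMap A B (g b) * c := by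
  simp [phi, Algebra.TensorProduct.lift_tmul, Algebra.ofId_apply]

theorem ker_phi : RingHom.ker (phi A B g) =
    (RingHom.ker g).map (Algebra.TensorProduct.includeLeft : B →ₐ[A] B ⊗[A] B) := by
  refine le_antisymm ?_ ?_
  · have h : ∀ x, x - (1 : B) ⊗ₜ[A] phi A B g x ∈
        (RingHom.ker g).map (Algebra.TensorProduct.includeLeft : B →ₐ[A] B ⊗[A] B) := by
      intro x
      induction x using TensorProduct.induction_on with
      | zero => simp
      | add x y hx hy =>
        rw [map_add, TensorProduct.tmul_add, add_sub_add_comm]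
        exact add_mem hx hy
      | tmul b c =>
        have e : b ⊗ₜ[A] c - (1 : B) ⊗ₜ[A] phi A B g (b ⊗ₜ[A] c) =
            ((1 : B) ⊗ₜ[A] c) * Algebra.TensorProduct.includeLeft (R := A) (S := A) (A := B) (B := B)
              (b - algebraMap A B (g b)) := by
          rw [phi_tmul, Algebra.TensorProduct.includeLeft_apply, Algebra.TensorProduct.tmul_mul_tmul,
            one_mul, mul_one, TensorProduct.sub_tmul, Algebra.algebraMap_eq_smul_one, smul_mul_assoc,
            one_mul, TensorProduct.smul_tmul]
        rw [e]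
        refine Ideal.mul_mem_left _ _ (Ideal.mem_map_of_mem _ ?_)
        simp [RingHom.mem_ker]
    intro x hx
    have := h x
    rwa [show phi A B g x = 0 from hx, TensorProduct.tmul_zero, sub_zero] at this
  · rw [Ideal.map_le_iff_le_comap]
    intro b hb
    rw [Ideal.mem_comap, RingHom.mem_ker, Algebra.TensorProduct.includeLeft_apply, phi_tmul,
      show g b = 0 from hb, map_zero, zero_mul]

theorem map_ideal_phi :
    (KaehlerDifferential.ideal A B).map (phi A B g).toRingHom = RingHom.ker g := by
  refine le_antisymm ((Ideal.map_mono span_range_delta.ge).trans ?_) ?_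
  · rw [Ideal.map_span, Ideal.span_le, ← Set.range_comp, Set.range_subset_iff]
    intro b
    show phi A B g (delta A b) ∈ RingHom.ker g
    simp [delta, phi_tmul, RingHom.mem_ker]
  · intro b hb
    have e : (phi A B g).toRingHom (delta A b) = b := by
      show phi A B g (delta A b) = b
      simp [delta, phi_tmul, show g b = 0 from hb]
    rw [← e]
    exact Ideal.mem_map_of_mem _ (delta_mem b)

theorem dn_mod_section :
    Function.Surjective ((Ideal.Quotient.mk ((RingHom.ker g).map
        (algebraMap B (PP16.P n A B)))).comp (PP16.dn n A B).toRingHom) ∧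
      RingHom.ker ((Ideal.Quotient.mk ((RingHom.ker g).map
        (algebraMap B (PP16.P n A B)))).comp (PP16.dn n A B).toRingHom) = RingHom.ker g ^ (n + 1) := by
  have hsurj : Function.Surjective (phi A B g) := fun b =>
    ⟨(1 : B) ⊗ₜ[A] b, by simp [phi_tmul]⟩
  let F : PP16.P n A B →+* B ⧸ RingHom.ker g ^ (n + 1) :=
    Ideal.Quotient.lift _ ((Ideal.Quotient.mk _).comp (phi A B g).toRingHom) fun x hx => by
      rw [RingHom.comp_apply, Ideal.Quotient.eq_zero_iff_mem, ← map_ideal_phi A B g,
        ← Ideal.map_pow]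
      exact Ideal.mem_map_of_mem (phi A B g).toRingHom hx
  obtain ⟨hFs, hFk⟩ := ker_quotient_pow (phi A B g).toRingHom hsurj (map_ideal_phi A B g) (n + 1)
    F (fun _ => rfl)
  have hJ : RingHom.ker F = (RingHom.ker g).map (algebraMap B (PP16.P n A B)) := by
    rw [hFk]
    show Ideal.map _ (RingHom.ker (phi A B g)) = _
    rw [ker_phi]
    exact Ideal.map_map _ _
  have hFdn : ∀ b, F (PP16.dn n A B b) = Ideal.Quotient.mk _ b := fun b => by
    show Ideal.Quotient.mk _ (phi A B g ((1 : B) ⊗ₜ[A] b)) = _
    simp [phi_tmul]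
  refine ⟨?_, ?_⟩
  · intro y
    obtain ⟨y, rfl⟩ := Ideal.Quotient.mk_surjective y
    obtain ⟨b, hb⟩ := Ideal.Quotient.mk_surjective (F y)
    refine ⟨b, ?_⟩
    rw [RingHom.comp_apply, Ideal.Quotient.eq, ← hJ, RingHom.mem_ker, map_sub,
      show F ((PP16.dn n A B).toRingHom b) = _ from hFdn b, hb, sub_self]
  · ext b
    rw [RingHom.mem_ker, RingHom.comp_apply, Ideal.Quotient.eq_zero_iff_mem, ← hJ,
      RingHom.mem_ker, show F ((PP16.dn n A B).toRingHom b) = _ from hFdn b,
      Ideal.Quotient.eq_zero_iff_mem]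

end section_

end Groth.Agent.Diff.Kernel
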