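import Groth.Agent.Diff.Basic
import Mathlib.RingTheory.MvPolynomial.Ideal
import Mathlib.RingTheory.Smooth.Basic
import Mathlib.Data.Nat.Choose.Basic
import Mathlib.LinearAlgebra.Basis.Defs

/-!
The monomials in `1 ⊗ z i - z i ⊗ 1` inside `B ⊗[A] B`, and divided power operators.
-/

set_option autoImplicit false

noncomputable section

namespace Groth.Agent.Diff.Monomial

universe u v w

open scoped TensorProduct
open Groth.Agent.Diff.Basic MvPolynomial

variable {A B : Type u} [CommRing A] [CommRing B] [Algebra A B] {ι : Type w}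

/-- `X i ↦ 1 ⊗ z i - z i ⊗ 1` -/
def theta (A : Type u) {B : Type u} [CommRing A] [CommRing B] [Algebra A B] {ι : Type w}
    (z : ι → B) : MvPolynomial ι B →ₐ[B] B ⊗[A] B :=
  aeval (fun i => delta A (z i))

/-- the shift `X i ↦ X i + z i` -/
def shift (z : ι → B) : MvPolynomial ι B →ₐ[B] MvPolynomial ι B :=
  aeval (fun i => X i + C (z i))

theorem theta_shift_monomial (z : ι → B) (q : ι →₀ ℕ) (c : B) :
    theta A z (shift z (monomial q c)) = c ⊗ₜ[A] (q.prod fun i k => z i ^ k) := by
  have h : (theta A z).comp (shift z) =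
      aeval (fun i => ((1 : B) ⊗ₜ[A] z i : B ⊗[A] B)) := by
    refine algHom_ext fun i => ?_
    simp [theta, shift, delta, MvPolynomial.algebraMap_eq]
  rw [← AlgHom.comp_apply, h, aeval_monomial]
  have e : (q.prod fun i k => ((1 : B) ⊗ₜ[A] z i : B ⊗[A] B) ^ k) =
      (1 : B) ⊗ₜ[A] (q.prod fun i k => z i ^ k) := by
    simp only [Finsupp.prod]
    have : ((1 : B) ⊗ₜ[A] (∏ a ∈ q.support, z a ^ q a) : B ⊗[A] B) =
        Algebra.TensorProduct.includeRight (R := A) (A := B) (∏ a ∈ q.support, z a ^ q a) := rfl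
    rw [this, map_prod]
    simp
  rw [e, Algebra.TensorProduct.algebraMap_apply, Algebra.TensorProduct.tmul_mul_tmul]
  simp

theorem shift_surjective (z : ι → B) : Function.Surjective (shift z) := by
  intro P
  refine ⟨aeval (fun i => X i - C (z i)) P, ?_⟩
  rw [← AlgHom.comp_apply]
  have : (shift z).comp (aeval (fun i => X i - C (z i))) = AlgHom.id B _ := by
    refine algHom_ext fun i => ?_
    simp [shift]
  rw [this]; rfl

theorem theta_mem_pow {z : ι → B} {j : ℕ} {P : MvPolynomial ι B}
    (h : P ∈ idealOfVars ι B ^ j) : theta A z P ∈ KaehlerDifferential.ideal A B ^ j := by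
  have h1 : (idealOfVars ι B).map (theta A z).toRingHom ≤ KaehlerDifferential.ideal A B := by
    rw [Ideal.map_le_iff_le_comap, Ideal.span_le, Set.range_subset_iff]
    intro i
    simpa [theta, RingHom.mem_ker] using delta_mem (A := A) (z i)
  have h2 : theta A z P ∈ (idealOfVars ι B ^ j).map (theta A z).toRingHom :=
    Ideal.mem_map_of_mem (theta A z).toRingHom h
  rw [Ideal.map_pow] at h2
  exact Ideal.pow_right_mono h1 j h2

/-- no relations among the monomials -/
def Indep (A : Type u) {B : Type u} [CommRing A] [CommRing B] [Algebra A B] {ι : Type w}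
    (z : ι → B) : Prop :=
  ∀ (m : ℕ) (P : MvPolynomial ι B),
    theta A z P ∈ KaehlerDifferential.ideal A B ^ (m + 1) → P ∈ idealOfVars ι B ^ (m + 1)

/-- the differentials generate -/
def Gen (A : Type u) {B : Type u} [CommRing A] [CommRing B] [Algebra A B] {ι : Type w}
    (z : ι → B) : Prop :=
  Submodule.span B (Set.range fun i => KaehlerDifferential.D A B (z i)) = ⊤

theorem gen_of_basis {z : ι → B} (b : Module.Basis ι B (KaehlerDifferential A B))
    (hb : ∀ i, b i = KaehlerDifferential.D A B (z i)) : Gen A z := by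
  have : (fun i => KaehlerDifferential.D A B (z i)) = b := funext fun i => (hb i).symm
  rw [Gen, this, b.span_eq]

section gen

variable {z : ι → B}

theorem exists_sub_mem_sq (hz : Gen A z) (x : B ⊗[A] B)
    (hx : x ∈ KaehlerDifferential.ideal A B) :
    ∃ P ∈ idealOfVars ι B, x - theta A z P ∈ KaehlerDifferential.ideal A B ^ 2 := by
  have h : KaehlerDifferential.fromIdeal A B ⟨x, hx⟩ ∈
      Submodule.span B (Set.range fun i => KaehlerDifferential.D A B (z i)) := by
    rw [show Submodule.span B (Set.range fun i => KaehlerDifferential.D A B (z i)) = ⊤ from hz]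
    exact Submodule.mem_top
  rw [Finsupp.mem_span_range_iff_exists_finsupp] at h
  obtain ⟨c, hc⟩ := h
  refine ⟨c.sum fun i a => C a * X i, ?_, ?_⟩
  · exact Submodule.sum_mem _ fun i _ => Ideal.mul_mem_left _ _ (Ideal.subset_span ⟨i, rfl⟩)
  · let y : ι → KaehlerDifferential.ideal A B := fun i => ⟨delta A (z i), delta_mem (z i)⟩
    have e : theta A z (c.sum fun i a => C a * X i) =
        ((c.sum fun i a => a • y i : KaehlerDifferential.ideal A B) : B ⊗[A] B) := by
      simp only [Finsupp.sum, map_sum, Submodule.coe_sum, Submodule.coe_smul_of_tower]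
      simp [theta, y, Algebra.smul_def]
    rw [e]
    refine ((KaehlerDifferential.ideal A B).toCotangent_eq
      (x := ⟨x, hx⟩) (y := c.sum fun i a => a • y i)).mp ?_
    rw [show (KaehlerDifferential.ideal A B).toCotangent ⟨x, hx⟩ =
      KaehlerDifferential.fromIdeal A B ⟨x, hx⟩ from rfl, ← hc]
    show (c.sum fun i a => a • KaehlerDifferential.D A B (z i)) =
      (KaehlerDifferential.fromIdeal A B).restrictScalars B (c.sum fun i a => a • y i)
    rw [map_finsuppSum]
    refine Finsupp.sum_congr fun i _ => ?_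
    rw [map_smul]; rfl

theorem exists_sub_mem_succ (hz : Gen A z) :
    ∀ (j : ℕ) (x : B ⊗[A] B), x ∈ KaehlerDifferential.ideal A B ^ j →
      ∃ P ∈ idealOfVars ι B ^ j, x - theta A z P ∈ KaehlerDifferential.ideal A B ^ (j + 1) := by
  intro j
  induction j with
  | zero =>
    intro x _
    refine ⟨C (Algebra.TensorProduct.lmul' (S := B) A x), by simp, ?_⟩
    rw [zero_add, pow_one]
    simp [theta, RingHom.mem_ker]
  | succ j ih =>
    intro x hx
    rw [pow_succ] at hx
    induction hx using Submodule.mul_induction_on' with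
    | mem_mul_mem a ha b hb =>
      obtain ⟨P, hP, hP'⟩ := ih a ha
      obtain ⟨Q, hQ, hQ'⟩ := exists_sub_mem_sq hz b hb
      refine ⟨P * Q, ?_, ?_⟩
      · rw [pow_succ]; exact Ideal.mul_mem_mul hP hQ
      · have e : a * b - theta A z (P * Q) =
            (a - theta A z P) * b + theta A z P * (b - theta A z Q) := by
          rw [map_mul]; ring
        rw [e]
        refine add_mem ?_ ?_
        · rw [pow_succ _ (j + 1)]; exact Ideal.mul_mem_mul hP' hb
        · rw [show j + 1 + 1 = j + 2 from rfl, pow_add]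
          exact Ideal.mul_mem_mul (theta_mem_pow hP) hQ'
    | add x hx y hy h1 h2 =>
      obtain ⟨P, hP, hP'⟩ := h1
      obtain ⟨Q, hQ, hQ'⟩ := h2
      refine ⟨P + Q, add_mem hP hQ, ?_⟩
      have e : x + y - theta A z (P + Q) = (x - theta A z P) + (y - theta A z Q) := by
        rw [map_add]; ring
      rw [e]; exact add_mem hP' hQ'

theorem exists_sub_mem (hz : Gen A z) (j : ℕ) (x : B ⊗[A] B)
    (hx : x ∈ KaehlerDifferential.ideal A B ^ j) :
    ∀ N, ∃ P ∈ idealOfVars ι B ^ j, x - theta A z P ∈ KaehlerDifferential.ideal A B ^ N := by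
  intro N
  induction N with
  | zero => exact ⟨0, zero_mem _, by simp⟩
  | succ N ih =>
    obtain ⟨P, hP, hP'⟩ := ih
    rcases le_or_gt j N with hle | hgt
    · obtain ⟨Q, hQ, hQ'⟩ := exists_sub_mem_succ hz N _ hP'
      exact ⟨P + Q, add_mem hP (Ideal.pow_le_pow_right hle hQ), by rwa [map_add, ← sub_sub]⟩
    · exact ⟨0, zero_mem _, by
        rw [map_zero, sub_zero]; exact Ideal.pow_le_pow_right (by omega) hx⟩

variable {N : Type u} [AddCommGroup N] [Module A N] [Module B N] [IsScalarTower A B N]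

theorem linearize_smul (D : B →ₗ[A] N) (c : B) (x : B ⊗[A] B) :
    Diff16.linearize A B B N D (c • x) = c • Diff16.linearize A B B N D x := by
  induction x using TensorProduct.induction_on with
  | zero => simp
  | tmul a b => rw [TensorProduct.smul_tmul', linearize_tmul, linearize_tmul, smul_eq_mul, mul_smul]
  | add x y hx hy => rw [smul_add, map_add, map_add, hx, hy, smul_add]

theorem linearize_theta_eq_zero (D : B →ₗ[A] N)
    (h : ∀ q : ι →₀ ℕ, D (q.prod fun i k => z i ^ k) = 0) (P : MvPolynomial ι B) :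
    Diff16.linearize A B B N D (theta A z P) = 0 := by
  obtain ⟨Q, rfl⟩ := shift_surjective z P
  induction Q using MvPolynomial.induction_on' with
  | monomial q c => rw [theta_shift_monomial, linearize_tmul, h, smul_zero]
  | add P Q hP hQ => rw [map_add, map_add, map_add, hP, hQ, add_zero]

theorem eq_zero_of_gen (hz : Gen A z) {m : ℕ} (D : B →ₗ[A] N)
    (hD : Diff16.IsDiffOpLE A B B N m D)
    (h : ∀ q : ι →₀ ℕ, D (q.prod fun i k => z i ^ k) = 0) : D = 0 := by
  ext a
  obtain ⟨P, -, hP⟩ := exists_sub_mem hz 0 ((1 : B) ⊗ₜ[A] a) (by simp) (m + 1)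
  have h1 := (isDiffOpLE_iff_linearize m D).mp hD _ hP
  rw [map_sub, linearize_theta_eq_zero D h, sub_zero, linearize_tmul, one_smul] at h1
  exact h1

theorem ext_of_gen (hz : Gen A z) {m : ℕ} (D D' : B →ₗ[A] N)
    (hD : Diff16.IsDiffOpLE A B B N m D) (hD' : Diff16.IsDiffOpLE A B B N m D')
    (h : ∀ q : ι →₀ ℕ, D (q.prod fun i k => z i ^ k) = D' (q.prod fun i k => z i ^ k)) :
    D = D' := by
  rw [← sub_eq_zero]
  refine eq_zero_of_gen hz (m := m) _ ?_ fun q => by simp [h q]
  rw [isDiffOpLE_iff_linearize] at *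
  intro x hx
  rw [linearize_eq, map_sub, LinearMap.sub_apply, ← linearize_eq, ← linearize_eq, hD x hx, hD' x hx,
    sub_zero]

end gen

section fintype

variable [Fintype ι] {z : ι → B}

/-- a multi-index as a finitely supported function -/
def mi (p : ι → ℕ) : ι →₀ ℕ := Finsupp.equivFunOnFinite.symm p

@[simp] theorem mi_apply (p : ι → ℕ) (i : ι) : mi p i = p i := by
  simp [mi]

theorem mi_coe (x : ι →₀ ℕ) : mi (fun i => x i) = x := by ext i; simp

theorem degree_mi (p : ι → ℕ) : (mi p).degree = ∑ i, p i := by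
  rw [Finsupp.degree_eq_sum]; simp

theorem coeff_eq_zero_of_mem {P : MvPolynomial ι B} {p : ι → ℕ} {d : ℕ}
    (hP : P ∈ idealOfVars ι B ^ d) (hp : ∑ i, p i < d) : coeff (mi p) P = 0 :=
  (mem_pow_idealOfVars_iff' d P).mp hP _ (by rw [degree_mi]; exact hp)

theorem mi_prod (q : ι → ℕ) : (mi q).prod (fun i k => z i ^ k) = ∏ i, z i ^ q i := by
  rw [Finsupp.prod_fintype _ _ (fun i => pow_zero _)]; simp

theorem coeff_shift_monomial (p q : ι → ℕ) :
    coeff (mi p) (shift z (monomial (mi q) (1 : B))) =
      ((∏ i, Nat.choose (q i) (p i) : ℕ) : B) * ∏ i, z i ^ (q i - p i) := by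
  classical
  rw [shift, aeval_monomial, map_one, one_mul, Finsupp.prod_fintype _ _ (fun i => pow_zero _)]
  simp only [mi_apply]
  have h : ∀ i, (X i + C (z i)) ^ q i = ∑ k ∈ Finset.range (q i + 1),
      monomial (Finsupp.single i k) (((q i).choose k : B) * z i ^ (q i - k)) := by
    intro i
    rw [add_pow]
    refine Finset.sum_congr rfl fun k _ => ?_
    rw [monomial_eq, Finsupp.prod_single_index (by simp), ← map_pow, map_mul, map_natCast]
    ring
  simp only [h]
  rw [Finset.prod_univ_sum, coeff_sum]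
  have hmono : ∀ f : ι → ℕ,
      (∏ i, monomial (Finsupp.single i (f i)) (((q i).choose (f i) : B) * z i ^ (q i - f i))) =
      monomial (mi f) (∏ i, (((q i).choose (f i) : B) * z i ^ (q i - f i))) := by
    intro f
    have hgen : ∀ s : Finset ι, (∏ i ∈ s, monomial (Finsupp.single i (f i))
        (((q i).choose (f i) : B) * z i ^ (q i - f i))) =
        monomial (∑ i ∈ s, Finsupp.single i (f i))
          (∏ i ∈ s, (((q i).choose (f i) : B) * z i ^ (q i - f i))) := by
      intro s
      induction s using Finset.cons_induction with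
      | empty => simp
      | cons a s ha ih => rw [Finset.prod_cons, ih, monomial_mul, Finset.sum_cons, Finset.prod_cons]
    rw [hgen]
    congr 2
    ext i
    simp [Finsupp.single_apply]
  simp only [hmono, coeff_monomial]
  have hinj : ∀ f, mi f = mi p ↔ f = p := fun f => by simp [mi]
  simp only [hinj, Finset.sum_ite_eq']
  rw [Nat.cast_prod, ← Finset.prod_mul_distrib]
  split_ifs with hp
  · rfl
  · simp only [Fintype.mem_piFinset, Finset.mem_range, not_forall] at hp
    obtain ⟨i, hi⟩ := hp
    refine (Finset.prod_eq_zero (Finset.mem_univ i) ?_).symm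
    rw [Nat.choose_eq_zero_of_lt (by omega), Nat.cast_zero, zero_mul]

/-- the value condition for divided power operators -/
def Values (z : ι → B) (p : ι → ℕ) (D : B →ₗ[A] B) : Prop :=
  ∀ q : ι → ℕ, D (∏ i, z i ^ q i) =
    ((∏ i, Nat.choose (q i) (p i) : ℕ) : B) * ∏ i, z i ^ (q i - p i)

theorem linearize_theta_of_values {p : ι → ℕ} {D : B →ₗ[A] B} (hD : Values z p D)
    (P : MvPolynomial ι B) :
    Diff16.linearize A B B B D (theta A z P) = coeff (mi p) P := by
  obtain ⟨Q, rfl⟩ := shift_surjective z P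
  induction Q using MvPolynomial.induction_on' with
  | monomial q c =>
    have hc : monomial q c = c • monomial q (1 : B) := by
      rw [smul_monomial, smul_eq_mul, mul_one]
    rw [theta_shift_monomial, linearize_tmul, hc, map_smul, coeff_smul, ← mi_coe q,
      mi_prod, coeff_shift_monomial, hD]
  | add P Q hP hQ => rw [map_add, map_add, map_add, hP, hQ, coeff_add]

theorem isDiffOpLE_of_values (hz : Gen A z) {p : ι → ℕ} {D : B →ₗ[A] B} (hD : Values z p D)
    {k : ℕ} (hk : Diff16.IsDiffOpLE A B B B k D) :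
    Diff16.IsDiffOpLE A B B B (∑ i, p i) D := by
  rw [isDiffOpLE_iff_linearize]
  intro x hx
  obtain ⟨P, hP, hP'⟩ := exists_sub_mem hz _ x hx (k + 1)
  have := (isDiffOpLE_iff_linearize k D).mp hk _ hP'
  rw [map_sub, linearize_theta_of_values hD, coeff_eq_zero_of_mem hP (by omega), sub_zero] at this
  exact this

theorem indep_of_values (hz : Gen A z) (Dp : (ι → ℕ) → (B →ₗ[A] B))
    (hD : ∀ p, ∃ k, Diff16.IsDiffOpLE A B B B k (Dp p)) (hv : ∀ p, Values z p (Dp p)) :
    Indep A z := by
  intro m P hP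
  rw [mem_pow_idealOfVars_iff']
  intro x hx
  obtain ⟨k, hk⟩ := hD (fun i => x i)
  have hord := isDiffOpLE_of_values hz (hv _) hk
  have hle : ∑ i, x i ≤ m := by rw [← degree_mi, mi_coe]; omega
  have := (isDiffOpLE_iff_linearize m _).mp (isDiffOpLE_mono hle hord) _ hP
  rwa [linearize_theta_of_values (hv _), mi_coe] at this

section construction

variable (hz : Gen A z) (hi : Indep A z)

include hz in
theorem exists_rep (d : ℕ) (x : B ⊗[A] B) : ∃ P : MvPolynomial ι B,
    x - theta A z P ∈ KaehlerDifferential.ideal A B ^ (d + 1) := by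
  obtain ⟨P, -, hP⟩ := exists_sub_mem hz 0 x (by simp) (d + 1)
  exact ⟨P, hP⟩

/-- the coefficient of a monomial of `x` -/
def coefFun (p : ι → ℕ) (x : B ⊗[A] B) : B :=
  coeff (mi p) (exists_rep hz (∑ i, p i) x).choose

include hi in
theorem coefFun_eq {p : ι → ℕ} {x : B ⊗[A] B} {P : MvPolynomial ι B}
    (h : x - theta A z P ∈ KaehlerDifferential.ideal A B ^ ((∑ i, p i) + 1)) :
    coefFun hz p x = coeff (mi p) P := by
  have h' := (exists_rep hz (∑ i, p i) x).choose_spec
  have h2 : theta A z ((exists_rep hz (∑ i, p i) x).choose - P) ∈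
      KaehlerDifferential.ideal A B ^ ((∑ i, p i) + 1) := by
    have := sub_mem h h'
    rwa [sub_sub_sub_cancel_left, ← map_sub] at this
  have := coeff_eq_zero_of_mem (hi _ _ h2) (Nat.lt_succ_self _)
  rwa [coeff_sub, sub_eq_zero] at this

/-- the coefficient functional -/
def coefLin (p : ι → ℕ) : B ⊗[A] B →ₗ[B] B where
  toFun := coefFun hz p
  map_add' x y := by
    rw [coefFun_eq hz hi (P := (exists_rep hz (∑ i, p i) x).choose +
      (exists_rep hz (∑ i, p i) y).choose)]
    · rw [coeff_add]; rfl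
    · have := add_mem (exists_rep hz (∑ i, p i) x).choose_spec
        (exists_rep hz (∑ i, p i) y).choose_spec
      rw [map_add]
      convert this using 1
      ring
  map_smul' c x := by
    rw [coefFun_eq hz hi (P := c • (exists_rep hz (∑ i, p i) x).choose)]
    · rw [coeff_smul]; rfl
    · have := Ideal.mul_mem_left (KaehlerDifferential.ideal A B ^ ((∑ i, p i) + 1))
        (algebraMap B (B ⊗[A] B) c) (exists_rep hz (∑ i, p i) x).choose_spec
      rw [map_smul, Algebra.smul_def, Algebra.smul_def, ← mul_sub]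
      exact this

/-- divided power operator -/
def dpOp (p : ι → ℕ) : B →ₗ[A] B :=
  ((coefLin hz hi p).restrictScalars A) ∘ₗ
    (Algebra.TensorProduct.includeRight (R := A) (A := B) (B := B)).toLinearMap

theorem linearize_dpOp (p : ι → ℕ) (x : B ⊗[A] B) :
    Diff16.linearize A B B B (dpOp hz hi p) x = coefLin hz hi p x := by
  induction x using TensorProduct.induction_on with
  | zero => simp
  | add x y hx hy => rw [map_add, map_add, hx, hy]
  | tmul b c =>
    rw [linearize_tmul]
    show b • coefLin hz hi p ((1 : B) ⊗ₜ[A] c) = coefLin hz hi p (b ⊗ₜ[A] c)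
    rw [← map_smul, TensorProduct.smul_tmul', smul_eq_mul, mul_one]

theorem isDiffOpLE_dpOp (p : ι → ℕ) :
    Diff16.IsDiffOpLE A B B B (∑ i, p i) (dpOp hz hi p) := by
  rw [isDiffOpLE_iff_linearize]
  intro x hx
  rw [linearize_dpOp]
  show coefFun hz p x = 0
  rw [coefFun_eq hz hi (P := 0) (by simpa using hx), coeff_zero]

theorem values_dpOp (p : ι → ℕ) : Values z p (dpOp hz hi p) := by
  intro q
  show coefFun hz p ((1 : B) ⊗ₜ[A] ∏ i, z i ^ q i) = _
  rw [coefFun_eq hz hi (P := shift z (monomial (mi q) (1 : B))), coeff_shift_monomial]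
  rw [theta_shift_monomial, mi_prod, sub_self]
  exact zero_mem _

end construction

theorem ext_of_values (hz : Gen A z) {p : ι → ℕ} {D D' : B →ₗ[A] B} {k : ℕ}
    (hk : Diff16.IsDiffOpLE A B B B k D) (hk' : Diff16.IsDiffOpLE A B B B k D')
    (hD : Values z p D) (hD' : Values z p D') : D = D' := by
  refine ext_of_gen hz D D' hk hk' fun q => ?_
  rw [← mi_coe q, mi_prod, hD, hD']

theorem values_comp (Dp : (ι → ℕ) → (B →ₗ[A] B)) (hv : ∀ p, Values z p (Dp p)) (p q : ι → ℕ) :
    Values z (p + q) (Dp (p + q)) ∧ ∀ r : ι → ℕ, (Dp p ∘ₗ Dp q) (∏ i, z i ^ r i) =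
      ((∏ i, Nat.choose (p i + q i) (p i) : ℕ) : B) * Dp (p + q) (∏ i, z i ^ r i) := by
  refine ⟨hv _, fun r => ?_⟩
  rw [LinearMap.comp_apply, hv q, ← nsmul_eq_mul, map_nsmul, nsmul_eq_mul, hv p, hv (p + q)]
  have hnat : ((∏ i, Nat.choose (r i) (q i)) * ∏ i, Nat.choose (r i - q i) (p i)) =
      (∏ i, Nat.choose (p i + q i) (p i)) * ∏ i, Nat.choose (r i) ((p + q) i) := by
    rw [← Finset.prod_mul_distrib, ← Finset.prod_mul_distrib]
    refine Finset.prod_congr rfl fun i _ => ?_
    rw [Pi.add_apply, mul_comm ((p i + q i).choose (p i))]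
    rw [Nat.choose_symm_add, Nat.choose_mul (Nat.le_add_left _ _), Nat.add_sub_cancel]
  have hsub : ∀ i, r i - q i - p i = r i - (p + q) i := fun i => by
    rw [Pi.add_apply]; omega
  simp only [hsub]
  rw [← mul_assoc, ← mul_assoc, ← Nat.cast_mul, ← Nat.cast_mul, hnat]

end fintype

end Groth.Agent.Diff.Monomial
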