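import Groth.Agent.Diff.Sym
import Groth.Agent.Diff.BaseChange
import Mathlib.RingTheory.Kaehler.TensorProduct
import Mathlib.LinearAlgebra.TensorProduct.Tower

/-!
Differential smoothness is stable under base change.
-/

set_option autoImplicit false

noncomputable section

namespace Groth.Agent.Diff.SmoothBaseChange

universe u

open scoped TensorProduct
open Groth.Agent.Diff.Basic Groth.Agent.Diff.Monomial Groth.Agent.Diff.Sym
  Groth.Agent.Diff.PM Groth.Agent.Diff.Etale MvPolynomial

section retraction

variable {A B : Type u} [CommRing A] [CommRing B] [Algebra A B] {ι : Type u} {z : ι → B}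
  {s : KaehlerDifferential A B →ₗ[B] ι →₀ B}

theorem phi_bijective (hs : IsSec z s) (h : PP16.IsDiffSmooth A B) (ι' : Type u) [Fintype ι'] :
    Function.Bijective (phi (ι' := ι') (z := z) s) := by
  obtain ⟨φ, hφ, hb⟩ := h.2 ι'
  have e : φ = phi (z := z) s := LinearMap.ext fun t => by
    have h1 := exists_eq_theta (z := z) φ hφ (pol s t) (pol_mem s t)
    rw [gMap_pol s hs] at h1
    exact h1
  rwa [← e]

/-- classes as a linear map -/
def clsL (A B : Type u) [CommRing A] [CommRing B] [Algebra A B] (j : ℕ) :
    ↥((KaehlerDifferential.ideal A B ^ j).restrictScalars B) →ₗ[B] PP16.grI A B j :=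
  Submodule.mkQ _

theorem exists_retraction (hs : IsSec z s) (h : PP16.IsDiffSmooth A B) (i : ℕ) :
    ∃ T : B ⊗[A] B →ₗ[B] B ⊗[A] B,
      (∀ x, T x ∈ KaehlerDifferential.ideal A B ^ i) ∧
      ∀ x ∈ KaehlerDifferential.ideal A B ^ i, T x = x := by
  induction i with
  | zero => exact ⟨LinearMap.id, fun x => by simp, fun _ _ => rfl⟩
  | succ i ih =>
    obtain ⟨T, hT, hT'⟩ := ih
    obtain ⟨j, hj, rfl⟩ : ∃ (j : Type u) (_ : Fintype j), Fintype.card j = i :=
      ⟨ULift.{u} (Fin i), inferInstance, by simp⟩
    let e := LinearEquiv.ofBijective (phi (ι' := j) (z := z) s) (phi_bijective hs h j)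
    let T₀ : B ⊗[A] B →ₗ[B]
        ↥((KaehlerDifferential.ideal A B ^ Fintype.card j).restrictScalars B) :=
      T.codRestrict _ hT
    let c : B ⊗[A] B →ₗ[B] SymmetricPower B j (KaehlerDifferential A B) :=
      e.symm.toLinearMap ∘ₗ clsL A B _ ∘ₗ T₀
    refine ⟨T - (theta A z).toLinearMap ∘ₗ pol s ∘ₗ c, fun x => ?_, fun x hx => ?_⟩
    · have hc : phi (z := z) s (c x) = cls _ (T x) (hT x) :=
        LinearEquiv.apply_symm_apply e _
      have := (cls_eq_iff.mp hc.symm)
      exact this
    · have hxi := Ideal.pow_le_pow_right (Nat.le_succ _) hx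
      have hc : c x = 0 := by
        show e.symm _ = 0
        rw [LinearEquiv.map_eq_zero_iff]
        exact cls_eq_zero_iff.mpr (by rw [hT' x hxi]; exact hx)
      rw [LinearMap.sub_apply, LinearMap.comp_apply, LinearMap.comp_apply, hc, map_zero, map_zero,
        sub_zero, hT' x hxi]

theorem exists_recover (hs : IsSec z s) (h : PP16.IsDiffSmooth A B) (ι' : Type u) [Fintype ι'] :
    ∃ R : B ⊗[A] B →ₗ[B] MvPolynomial ι B,
      (∀ x ∈ KaehlerDifferential.ideal A B ^ (Fintype.card ι' + 1), R x = 0) ∧
      ∀ t : SymmetricPower B ι' (KaehlerDifferential A B), R (theta A z (pol s t)) = pol s t := by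
  obtain ⟨T, hT, hT'⟩ := exists_retraction hs h (Fintype.card ι')
  let e := LinearEquiv.ofBijective (phi (ι' := ι') (z := z) s) (phi_bijective hs h ι')
  let T₀ : B ⊗[A] B →ₗ[B]
      ↥((KaehlerDifferential.ideal A B ^ Fintype.card ι').restrictScalars B) :=
    T.codRestrict _ hT
  refine ⟨pol s ∘ₗ e.symm.toLinearMap ∘ₗ clsL A B _ ∘ₗ T₀, fun x hx => ?_, fun t => ?_⟩
  · have : clsL A B _ (T₀ x) = 0 :=
      cls_eq_zero_iff.mpr (by rw [hT' x (Ideal.pow_le_pow_right (Nat.le_succ _) hx)]; exact hx)
    simp only [LinearMap.comp_apply, this, map_zero]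
  · show pol s (e.symm _) = pol s t
    congr 1
    rw [LinearEquiv.symm_apply_eq]
    refine cls_eq_iff.mpr ?_
    rw [hT' _ (theta_mem_pow (pol_mem s t)), sub_self]
    exact zero_mem _

end retraction

theorem sym_ext_of_surjective {R : Type u} [CommRing R] {ι' : Type u} [Finite ι'] {ι : Type u}
    {M N : Type u} [AddCommGroup M] [Module R M] [AddCommGroup N] [Module R N]
    (v : ι → M) (hv : Function.Surjective (Finsupp.linearCombination R v))
    {f g : SymmetricPower R ι' M →ₗ[R] N}
    (h : ∀ m : ι' → ι, f (SymmetricPower.tprod R fun k => v (m k)) =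
      g (SymmetricPower.tprod R fun k => v (m k))) : f = g := by
  refine sym_ext fun m => ?_
  choose c hc using fun k => hv (m k)
  let F : (SymmetricPower R ι' M →ₗ[R] N) → MultilinearMap R (fun _ : ι' => ι →₀ R) N := fun f =>
    (f.compMultilinearMap (SymmetricPower.tprod R (ι := ι') (M := M))).compLinearMap
      fun _ => Finsupp.linearCombination R v
  have e : F f = F g := Module.Basis.ext_multilinear (fun _ => Finsupp.basisSingleOne) fun m => by
    simp only [F, MultilinearMap.compLinearMap_apply, LinearMap.compMultilinearMap_apply,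
      Finsupp.coe_basisSingleOne, Finsupp.linearCombination_single, one_smul]
    exact h m
  have := congrArg (fun G => G c) e
  simpa [F, hc] using this

variable (A B A' B' : Type u) [CommRing A] [CommRing B] [Algebra A B]
  [CommRing A'] [CommRing B'] [Algebra A' B'] [Algebra A A'] [Algebra B B'] [Algebra A B']
  [IsScalarTower A A' B'] [IsScalarTower A B B'] [Algebra.IsPushout A B A' B']

theorem isDiffSmooth (h : PP16.IsDiffSmooth A B) : PP16.IsDiffSmooth A' B' := by
  haveI H : Algebra.IsPushout A A' B B' := Algebra.IsPushout.symm inferInstance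
  haveI := h.1
  have hsurj : Function.Surjective
      (Finsupp.linearCombination B (fun a : B => KaehlerDifferential.D A B a)) := by
    intro x
    have hx : x ∈ Submodule.span B (Set.range (KaehlerDifferential.D A B)) := by
      rw [KaehlerDifferential.span_range_derivation]; trivial
    rw [Finsupp.mem_span_range_iff_exists_finsupp] at hx
    obtain ⟨c, hc⟩ := hx
    exact ⟨c, by rw [Finsupp.linearCombination_apply]; exact hc⟩
  obtain ⟨s, hs⟩ := Module.projective_lifting_property _ LinearMap.id hsurj
  have hsec : IsSec (fun b : B => b) s := fun m => LinearMap.congr_fun hs m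
  let E := KaehlerDifferential.tensorKaehlerEquiv A A' B B'
  have hE : ∀ (b : B') ω, E (b ⊗ₜ[B] ω) = b • KaehlerDifferential.map A A' B B' ω := by
    intro b ω
    have hω : ω ∈ Submodule.span B (Set.range (KaehlerDifferential.D A B)) := by
      rw [KaehlerDifferential.span_range_derivation]; trivial
    induction hω using Submodule.span_induction with
    | mem x hx =>
      obtain ⟨a, rfl⟩ := hx
      rw [KaehlerDifferential.tensorKaehlerEquiv_tmul_D, KaehlerDifferential.map_D]
    | zero => simp
    | add x y _ _ hx hy => rw [TensorProduct.tmul_add, map_add, map_add, smul_add, hx, hy]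
    | smul c x _ hx =>
      rw [← TensorProduct.smul_tmul, map_smul, ← algebraMap_smul B' c
        (KaehlerDifferential.map A A' B B' x), smul_smul, Algebra.smul_def, mul_comm b, ← smul_smul,
        ← hx, ← map_smul, TensorProduct.smul_tmul', smul_eq_mul]
  let mapc : (B →₀ B) →ₗ[B] (B →₀ B') := Finsupp.mapRange.linearMap (Algebra.linearMap B B')
  let s' : KaehlerDifferential A' B' →ₗ[B'] B →₀ B' :=
    (LinearMap.liftBaseChange B' (mapc ∘ₗ s)) ∘ₗ E.symm.toLinearMap
  have hs'map : ∀ ω, s' (KaehlerDifferential.map A A' B B' ω) = mapc (s ω) := fun ω => by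
    rw [← one_smul B' (KaehlerDifferential.map A A' B B' ω), ← hE]
    simp [s']
  have hlc : ∀ c : B →₀ B,
      Finsupp.linearCombination B' (fun i => KaehlerDifferential.D A' B' (zB B B' i)) (mapc c) =
        KaehlerDifferential.map A A' B B'
          (Finsupp.linearCombination B (fun a : B => KaehlerDifferential.D A B a) c) := by
    intro c
    induction c using Finsupp.induction_linear with
    | zero => simp
    | add a b ha hb => simp only [map_add, ha, hb]
    | single a r => simp [mapc, zB, algebraMap_smul]
  have hsec' : IsSec (zB B B') s' := by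
    intro m
    obtain ⟨t, rfl⟩ := E.surjective m
    induction t using TensorProduct.induction_on with
    | zero => simp
    | add x y hx hy => simp only [map_add, hx, hy]
    | tmul b ω =>
      rw [hE, map_smul, map_smul, hs'map, hlc]
      exact congrArg (b • ·) (congrArg _ (hsec ω))
  refine isDiffSmooth_of_pol s' hsec' fun ι' _ t ht => ?_
  obtain ⟨R, hR, hR'⟩ := exists_recover hsec h ι'
  let n := Fintype.card ι'
  let R₀ : PP16.P n A B →ₗ[B] MvPolynomial B B :=
    ((KaehlerDifferential.ideal A B ^ (n + 1)).restrictScalars B).liftQ R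
      (fun x hx => hR x hx) ∘ₗ
      (Submodule.Quotient.restrictScalarsEquiv B
        (KaehlerDifferential.ideal A B ^ (n + 1))).symm.toLinearMap
  have hR₀ : ∀ x, R₀ (q n A B x) = R x := fun x => rfl
  let mapP : MvPolynomial B B →ₐ[B] MvPolynomial B B' := MvPolynomial.mapAlgHom (Algebra.ofId B B')
  let L : B' ⊗[B] PP16.P n A B →ₗ[B'] MvPolynomial B B' :=
    LinearMap.liftBaseChange B' (mapP.toLinearMap ∘ₗ R₀)
  let R' : B' ⊗[A'] B' →ₗ[B'] MvPolynomial B B' :=
    L ∘ₗ (BaseChange.muBar n A B A' B').toLinearMap ∘ₗ
      (Ideal.Quotient.mkₐ B' (KaehlerDifferential.ideal A' B' ^ (n + 1))).toLinearMap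
  have hθ : ∀ P, theta A' (zB B B') (mapP P) =
      PP16.tensorMap A B A' B' (theta A (fun b : B => b) P) := by
    intro P
    induction P using MvPolynomial.induction_on with
    | C c =>
      simp [theta, mapP, PP16.tensorMap_tmul, Algebra.TensorProduct.algebraMap_apply,
        Algebra.ofId_apply]
    | add P Q hP hQ => simp only [map_add, hP, hQ]
    | mul_X P i hP =>
      simp only [map_mul, hP]
      congr 1
      simp [theta, mapP, delta, zB, PP16.tensorMap_tmul]
  have hkey : ∀ u : SymmetricPower B ι' (KaehlerDifferential A B),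
      R' (theta A' (zB B B') (mapP (pol s u))) = mapP (pol s u) := by
    intro u
    show L (BaseChange.muBar n A B A' B' (q n A' B' (theta A' (zB B B') (mapP (pol s u))))) = _
    rw [hθ]
    have : q n A' B' (PP16.tensorMap A B A' B' (theta A (fun b : B => b) (pol s u))) =
        BaseChange.nu n A B A' B' ((1 : B') ⊗ₜ[B] q n A B (theta A (fun b : B => b) (pol s u))) := by
      rw [BaseChange.nu_one_tmul]; rfl
    rw [this, BaseChange.muBar_nu]
    simp only [L, LinearMap.liftBaseChange_tmul, one_smul, LinearMap.comp_apply, hR₀, hR',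
      AlgHom.toLinearMap_apply]
  have hlin : ∀ c : B →₀ B, lin (mapc c) = mapP (lin c) := by
    intro c
    induction c using Finsupp.induction_linear with
    | zero => simp
    | add a b ha hb => simp only [map_add, ha, hb]
    | single a r =>
      simp [mapc, lin, mapP, Algebra.smul_def, MvPolynomial.algebraMap_eq, Algebra.ofId_apply]
  have hall : R' ∘ₗ (theta A' (zB B B')).toLinearMap ∘ₗ pol (ι' := ι') s' = pol s' := by
    refine sym_ext_of_surjective (fun i => KaehlerDifferential.D A' B' (zB B B' i))
      (fun x => ⟨s' x, hsec' x⟩) fun m => ?_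
    have e : pol s' (SymmetricPower.tprod B'
        fun k => KaehlerDifferential.D A' B' (zB B B' (m k))) =
        mapP (pol s (SymmetricPower.tprod B fun k => KaehlerDifferential.D A B (m k))) := by
      rw [pol_tprod, pol_tprod, map_prod]
      refine Finset.prod_congr rfl fun k _ => ?_
      rw [zB, ← KaehlerDifferential.map_D A A' B B', hs'map, hlin]
    simp only [LinearMap.comp_apply, AlgHom.toLinearMap_apply, e, hkey]
  have h0 : pol s' t = 0 := by
    rw [← LinearMap.congr_fun hall t]
    show L (BaseChange.muBar n A B A' B' (q n A' B' (theta A' (zB B B') (pol s' t)))) = 0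
    rw [show q n A' B' (theta A' (zB B B') (pol s' t)) = 0 from
      Ideal.Quotient.eq_zero_iff_mem.mpr ht, map_zero, map_zero]
  rw [h0]
  exact zero_mem _

end Groth.Agent.Diff.SmoothBaseChange
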