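import Groth.Agent.Diff.Sym
import Mathlib.RingTheory.Smooth.Kaehler

/-!
Formally smooth algebras are differentially smooth.
-/

set_option autoImplicit false

noncomputable section

namespace Groth.Agent.Diff.SmoothSec

universe u w

open scoped TensorProduct
open Groth.Agent.Diff.Basic Groth.Agent.Diff.Monomial Groth.Agent.Diff.Sym MvPolynomial

variable {A B : Type u} [CommRing A] [CommRing B] [Algebra A B] {ι : Type w} {z : ι → B}

theorem exists_sigma [Algebra.FormallySmooth A B]
    (s : KaehlerDifferential A B →ₗ[B] ι →₀ B) (m : ℕ) (hm : 0 < m) :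
    ∃ σ : MvPolynomial ι B →ₐ[B] MvPolynomial ι B,
      (∀ P, theta A z P ∈ KaehlerDifferential.ideal A B ^ (m + 1) →
        σ P ∈ idealOfVars ι B ^ (m + 1)) ∧
      ∀ i, σ (X i) - lin (s (KaehlerDifferential.D A B (z i))) ∈ idealOfVars ι B ^ 2 := by
  let R := MvPolynomial ι B
  let J : Ideal R := idealOfVars ι B ^ (m + 1)
  let J₂ : Ideal R := idealOfVars ι B ^ 2
  let L : B → R := fun a => Finsupp.linearCombination B (X : ι → R) (s (KaehlerDifferential.D A B a))
  have hL : ∀ a, L a ∈ idealOfVars ι B := fun a => by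
    simp only [L, Finsupp.linearCombination_apply]
    refine Submodule.sum_mem _ fun i _ => ?_
    show (s (KaehlerDifferential.D A B a) i) • (X i : R) ∈ idealOfVars ι B
    rw [Algebra.smul_def]
    exact Ideal.mul_mem_left _ _ (Ideal.subset_span ⟨i, rfl⟩)
  have hadd : ∀ a c, L (a + c) = L a + L c := fun a c => by simp [L]
  have hmul : ∀ a c, L (a * c) = C a * L c + C c * L a := fun a c => by
    simp only [L, Derivation.leibniz, map_add, map_smul]
    simp [Algebra.smul_def, MvPolynomial.algebraMap_eq]
  let g : B →ₐ[A] R ⧸ J₂ :=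
    { toFun := fun a => Ideal.Quotient.mk J₂ (C a + L a)
      map_one' := by simp [L]
      map_mul' := fun a c => by
        rw [← map_mul, Ideal.Quotient.eq, hmul, map_mul]
        have : C a * C c + (C a * L c + C c * L a) - (C a + L a) * (C c + L c) = -(L a * L c) := by
          ring
        rw [this]
        refine neg_mem ?_
        show L a * L c ∈ idealOfVars ι B ^ 2
        rw [pow_two]; exact Ideal.mul_mem_mul (hL a) (hL c)
      map_zero' := by simp [L]
      map_add' := fun a c => by simp only [hadd, map_add]; ring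
      commutes' := fun r => by
        have : L (algebraMap A B r) = 0 := by simp [L]
        simp [this]
        rfl }
  let π : R ⧸ J →ₐ[A] R ⧸ J₂ :=
    Ideal.Quotient.factorₐ A (Ideal.pow_le_pow_right (by omega) : J ≤ J₂)
  have hπ : Function.Surjective π :=
    Ideal.Quotient.factor_surjective (Ideal.pow_le_pow_right (by omega) : J ≤ J₂)
  have hker : IsNilpotent (RingHom.ker π.toRingHom) := by
    refine ⟨m + 1, ?_⟩
    have hk : RingHom.ker π.toRingHom ≤ (idealOfVars ι B).map (Ideal.Quotient.mk J) := by
      intro x hx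
      obtain ⟨y, rfl⟩ := Ideal.Quotient.mk_surjective x
      refine Ideal.mem_map_of_mem _ (Ideal.pow_le_self two_ne_zero ?_)
      exact Ideal.Quotient.eq_zero_iff_mem.mp hx
    refine le_bot_iff.mp ((Ideal.pow_right_mono hk _).trans ?_)
    rw [← Ideal.map_pow, Ideal.map_quotient_self]
  let ψ : B →ₐ[A] R ⧸ J := Algebra.FormallySmooth.liftOfSurjective g π hπ hker
  have hψ : π.comp ψ = g := Algebra.FormallySmooth.comp_liftOfSurjective g π hπ hker
  let Ψ : B ⊗[A] B →ₐ[B] R ⧸ J :=
    Algebra.TensorProduct.lift (Algebra.ofId B (R ⧸ J)) ψ (fun _ _ => Commute.all _ _)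
  have hdelta : ∀ a, π (Ψ (delta A a)) = Ideal.Quotient.mk J₂ (L a) := by
    intro a
    have h1 : π (ψ a) = Ideal.Quotient.mk J₂ (C a + L a) := DFunLike.congr_fun hψ a
    have h2 : π (algebraMap B (R ⧸ J) a) = Ideal.Quotient.mk J₂ (C a) := rfl
    simp [delta, Ψ, Algebra.TensorProduct.lift_tmul, map_sub, h1, h2]
  have hI : (KaehlerDifferential.ideal A B).map Ψ.toRingHom ≤
      (idealOfVars ι B).map (Ideal.Quotient.mk J) := by
    rw [← span_range_delta, Ideal.map_span, Ideal.span_le, ← Set.range_comp, Set.range_subset_iff]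
    intro a
    obtain ⟨y, hy⟩ := Ideal.Quotient.mk_surjective (Ψ (delta A a))
    show Ψ (delta A a) ∈ _
    rw [← hy]
    refine Ideal.mem_map_of_mem _ ?_
    have h := hdelta a
    rw [← hy, show π (Ideal.Quotient.mk J y) = Ideal.Quotient.mk J₂ y from rfl,
      Ideal.Quotient.eq] at h
    have h2 := add_mem (Ideal.pow_le_self two_ne_zero h) (hL a)
    simpa using h2
  have hzero : ∀ P, theta A z P ∈ KaehlerDifferential.ideal A B ^ (m + 1) →
      Ψ (theta A z P) = 0 := by
    intro P hP
    have h2 := Ideal.mem_map_of_mem Ψ.toRingHom hP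
    rw [Ideal.map_pow] at h2
    have h3 := Ideal.pow_right_mono hI (m + 1) h2
    rw [← Ideal.map_pow, Ideal.map_quotient_self, Ideal.mem_bot] at h3
    exact h3
  choose Y hY using fun i => Ideal.Quotient.mk_surjective (Ψ (delta A (z i)))
  let σ : R →ₐ[B] R := aeval Y
  have hcomp : (Ψ.comp (theta A z)) = (Ideal.Quotient.mkₐ B J).comp σ := by
    refine algHom_ext fun i => ?_
    simp [theta, σ, hY]
  refine ⟨σ, fun P hP => ?_, fun i => ?_⟩
  · show σ P ∈ J
    rw [← Ideal.Quotient.eq_zero_iff_mem]
    exact (DFunLike.congr_fun hcomp P).symm.trans (hzero P hP)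
  have h := hdelta (z i)
  rw [← hY i, show π (Ideal.Quotient.mk J (Y i)) = Ideal.Quotient.mk J₂ (Y i) from rfl,
    Ideal.Quotient.eq] at h
  simpa [σ, L, lin] using h


theorem isDiffSmooth_of_formallySmooth [Algebra.FormallySmooth A B]
    (s : KaehlerDifferential A B →ₗ[B] ι →₀ B) (hs : IsSec z s) :
    PP16.IsDiffSmooth A B := by
  refine isDiffSmooth_of_pol s hs fun ι' _ t ht => ?_
  rcases Nat.eq_zero_or_pos (Fintype.card ι') with h0 | hpos
  · rw [h0, zero_add, pow_one] at ht ⊢
    have hC := SmoothIndep.C_constantCoeff_sub_mem (pol s t)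
    have h1 : theta A z (pol s t - C (constantCoeff (pol s t))) ∈ KaehlerDifferential.ideal A B := by
      have := theta_mem_pow (A := A) (z := z) (j := 1)
        (P := pol s t - C (constantCoeff (pol s t))) (by rw [pow_one]; exact hC)
      rwa [pow_one] at this
    have h2 := sub_mem ht h1
    rw [← map_sub, sub_sub_cancel, RingHom.mem_ker] at h2
    have h3 : constantCoeff (pol s t) = 0 := by simpa [theta] using h2
    rwa [h3, map_zero, sub_zero] at hC
  obtain ⟨σ, hσ, hσX⟩ := exists_sigma (z := z) s (Fintype.card ι') hpos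
  let p : (ι →₀ B) →ₗ[B] ι →₀ B :=
    s ∘ₗ Finsupp.linearCombination B (fun i => KaehlerDifferential.D A B (z i))
  have hlin : ∀ c, σ (lin c) - lin (p c) ∈ idealOfVars ι B ^ 2 := by
    intro c
    induction c using Finsupp.induction_linear with
    | zero => simp [p]
    | add a b ha hb => rw [map_add, map_add, map_add, map_add, add_sub_add_comm]; exact add_mem ha hb
    | single i r =>
      have e : p (Finsupp.single i r) = r • s (KaehlerDifferential.D A B (z i)) := by simp [p]
      rw [e, lin_single, map_smul, map_smul, ← smul_sub, smul_eq_C_mul]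
      exact Ideal.mul_mem_left _ _ (hσX i)
  have hpol : ∀ u : SymmetricPower B ι' (KaehlerDifferential A B),
      σ (pol s u) - pol s u ∈ idealOfVars ι B ^ (Fintype.card ι' + 1) := by
    intro u
    have hu : u ∈ Submodule.span B (Set.range (SymmetricPower.tprod B (ι := ι')
        (M := KaehlerDifferential A B))) := by
      rw [SymmetricPower.span_tprod_eq_top]; trivial
    induction hu using Submodule.span_induction with
    | mem x hx =>
      obtain ⟨m, rfl⟩ := hx
      have hsec : ∀ k, σ (lin (s (m k))) - lin (s (m k)) ∈ idealOfVars ι B ^ 2 := fun k => by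
        have := hlin (s (m k))
        rwa [show p (s (m k)) = s (m k) by simp [p, hs (m k)]] at this
      rw [pol_tprod, map_prod, ← Finset.card_univ]
      refine prod_congr_pow _ _ _ _ (fun k _ => ?_) (fun k _ => lin_mem _) (fun k _ => hsec k)
      have h2 := add_mem (Ideal.pow_le_self two_ne_zero (hsec k)) (lin_mem (s (m k)))
      rwa [sub_add_cancel] at h2
    | zero => simp
    | add x y _ _ hx hy => rw [map_add, map_add, add_sub_add_comm]; exact add_mem hx hy
    | smul c x _ hx =>
      rw [map_smul, map_smul, ← smul_sub, smul_eq_C_mul]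
      exact Ideal.mul_mem_left _ _ hx
  have := sub_mem (hσ _ ht) (hpol t)
  rwa [sub_sub_cancel] at this

end Groth.Agent.Diff.SmoothSec
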