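import Groth.Agent.Diff.SmoothIndep
import Groth.Prelude.Def_PP16
import Mathlib.RingTheory.MvPolynomial.Homogeneous
import Mathlib.LinearAlgebra.Multilinear.Basis
import Mathlib.Algebra.Module.Projective
import Mathlib.Data.Finsupp.Multiset

/-!
The symmetric powers of differentials against the graded pieces of the diagonal ideal.
-/

set_option autoImplicit false
set_option linter.unusedSectionVars false

noncomputable section

namespace Groth.Agent.Diff.Sym

universe u v w

open scoped TensorProduct
open Groth.Agent.Diff.Basic Groth.Agent.Diff.Monomial MvPolynomial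

section symmetricPower

variable {R : Type u} [CommRing R] {ι' : Type u} {M : Type u} [AddCommGroup M] [Module R M]
  {N : Type v} [AddCommGroup N] [Module R N]

/-- a symmetric multilinear map descends to the symmetric power -/
def symLift (f : MultilinearMap R (fun _ : ι' => M) N)
    (hf : ∀ (e : Equiv.Perm ι') (m : ι' → M), f (fun i => m (e i)) = f m) :
    SymmetricPower R ι' M →ₗ[R] N where
  toFun := AddCon.lift _ (PiTensorProduct.lift f).toAddMonoidHom (AddCon.addConGen_le.mpr (by
    intro x y h
    cases h with
    | perm e m =>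
      rw [AddCon.ker_rel]
      simp [hf e m]))
  map_add' := map_add _
  map_smul' r x := by
    induction x using AddCon.induction_on with
    | H x => exact (PiTensorProduct.lift f).map_smul r x

theorem symLift_tprod (f : MultilinearMap R (fun _ : ι' => M) N)
    (hf : ∀ (e : Equiv.Perm ι') (m : ι' → M), f (fun i => m (e i)) = f m) (m : ι' → M) :
    symLift f hf (SymmetricPower.tprod R m) = f m :=
  PiTensorProduct.lift.tprod m

theorem sym_ext {N : Type v} [AddCommGroup N] [Module R N]
    {f g : SymmetricPower R ι' M →ₗ[R] N}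
    (h : ∀ m, f (SymmetricPower.tprod R m) = g (SymmetricPower.tprod R m)) : f = g :=
  LinearMap.ext_on_range (SymmetricPower.span_tprod_eq_top R ι' M) h

end symmetricPower

theorem prod_congr_pow {R : Type u} [CommRing R] {α : Type w} (J : Ideal R) (s : Finset α)
    (x y : α → R) (hx : ∀ a ∈ s, x a ∈ J) (hy : ∀ a ∈ s, y a ∈ J)
    (h : ∀ a ∈ s, x a - y a ∈ J ^ 2) :
    (∏ a ∈ s, x a) - (∏ a ∈ s, y a) ∈ J ^ (s.card + 1) := by
  have hp : ∀ (t : Finset α) (f : α → R), (∀ a ∈ t, f a ∈ J) → ∏ a ∈ t, f a ∈ J ^ t.card := by
    intro t f hf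
    induction t using Finset.cons_induction with
    | empty => simp
    | cons a t ha ih =>
      rw [Finset.prod_cons, Finset.card_cons, pow_succ']
      exact Ideal.mul_mem_mul (hf a (by simp)) (ih fun b hb => hf b (by simp [hb]))
  induction s using Finset.cons_induction with
  | empty => simp
  | cons a s ha ih =>
    have ih' := ih (fun b hb => hx b (by simp [hb])) (fun b hb => hy b (by simp [hb]))
      (fun b hb => h b (by simp [hb]))
    have e : (∏ b ∈ Finset.cons a s ha, x b) - (∏ b ∈ Finset.cons a s ha, y b) =
        (x a - y a) * (∏ b ∈ s, x b) + y a * ((∏ b ∈ s, x b) - ∏ b ∈ s, y b) := by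
      rw [Finset.prod_cons, Finset.prod_cons]; ring
    rw [e, Finset.card_cons]
    refine add_mem ?_ ?_
    · rw [show s.card + 1 + 1 = 2 + s.card by omega, pow_add]
      exact Ideal.mul_mem_mul (h a (by simp)) (hp s x fun b hb => hx b (by simp [hb]))
    · rw [pow_succ' J (s.card + 1)]
      exact Ideal.mul_mem_mul (hy a (by simp)) ih'

section main

variable {A B : Type u} [CommRing A] [CommRing B] [Algebra A B] {ι : Type w} {z : ι → B}
  {ι' : Type u} [Fintype ι']

/-- linear form -/
def lin : (ι →₀ B) →ₗ[B] MvPolynomial ι B := Finsupp.linearCombination B X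

theorem lin_single (i : ι) (c : B) : lin (Finsupp.single i c) = c • (X i : MvPolynomial ι B) := by
  simp [lin]

theorem lin_mem (c : ι →₀ B) : lin c ∈ idealOfVars ι B := by
  induction c using Finsupp.induction_linear with
  | zero => simp
  | add a b ha hb => rw [map_add]; exact add_mem ha hb
  | single i c =>
    rw [lin_single, Algebra.smul_def]
    exact Ideal.mul_mem_left _ _ (Ideal.subset_span ⟨i, rfl⟩)

theorem lin_homogeneous (c : ι →₀ B) : (lin c).IsHomogeneous 1 := by
  induction c using Finsupp.induction_linear with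
  | zero => simp [isHomogeneous_zero]
  | add a b ha hb => rw [map_add]; exact ha.add hb
  | single i c =>
    rw [lin_single, smul_eq_C_mul]
    exact (isHomogeneous_X B i).C_mul c

theorem toCotangent_theta_lin (c : ι →₀ B) (h : theta A z (lin c) ∈ KaehlerDifferential.ideal A B) :
    (KaehlerDifferential.ideal A B).toCotangent ⟨theta A z (lin c), h⟩ =
      Finsupp.linearCombination B (fun i => KaehlerDifferential.D A B (z i)) c := by
  let y : ι → KaehlerDifferential.ideal A B := fun i => ⟨delta A (z i), delta_mem (z i)⟩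
  have e : (⟨theta A z (lin c), h⟩ : KaehlerDifferential.ideal A B) =
      c.sum fun i a => a • y i := by
    apply Subtype.ext
    simp only [lin, Finsupp.linearCombination_apply, Finsupp.sum, map_sum, Submodule.coe_sum,
      Submodule.coe_smul_of_tower, map_smul]
    simp [theta, y]
  rw [e]
  show ((KaehlerDifferential.fromIdeal A B).restrictScalars B) (c.sum fun i a => a • y i) = _
  rw [map_finsuppSum, Finsupp.linearCombination_apply]
  refine Finsupp.sum_congr fun i _ => ?_
  rw [map_smul]
  rfl

theorem theta_lin_mem (c : ι →₀ B) : theta A z (lin c) ∈ KaehlerDifferential.ideal A B := by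
  have := theta_mem_pow (A := A) (z := z) (j := 1) (P := lin c) (by rw [pow_one]; exact lin_mem c)
  rwa [pow_one] at this

variable (s : KaehlerDifferential A B →ₗ[B] ι →₀ B)

/-- `s` is a section of the map given by the differentials -/
def IsSec (z : ι → B) (s : KaehlerDifferential A B →ₗ[B] ι →₀ B) : Prop :=
  ∀ m, Finsupp.linearCombination B (fun i => KaehlerDifferential.D A B (z i)) (s m) = m

theorem gen_of_sec {s : KaehlerDifferential A B →ₗ[B] ι →₀ B} (hs : IsSec z s) : Gen A z := by
  rw [Gen, eq_top_iff]
  intro m _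
  rw [← hs m, Finsupp.mem_span_range_iff_exists_finsupp]
  exact ⟨s m, (Finsupp.linearCombination_apply B (s m)).symm⟩

theorem theta_lin_D_congr (hs : IsSec z s) (a : B) :
    theta A z (lin (s (KaehlerDifferential.D A B a))) - delta A a ∈
      KaehlerDifferential.ideal A B ^ 2 := by
  refine (Ideal.toCotangent_eq (KaehlerDifferential.ideal A B)
    (x := ⟨_, theta_lin_mem _⟩) (y := ⟨_, delta_mem a⟩)).mp ?_
  rw [toCotangent_theta_lin, hs]
  rfl

/-- product of linear forms -/
def polF : MultilinearMap B (fun _ : ι' => ι →₀ B) (MvPolynomial ι B) :=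
  (MultilinearMap.mkPiAlgebra B ι' (MvPolynomial ι B)).compLinearMap fun _ => lin

theorem polF_apply (c : ι' → ι →₀ B) : polF c = ∏ k, lin (c k) := rfl

/-- product of linear forms on the symmetric power -/
def pol : SymmetricPower B ι' (KaehlerDifferential A B) →ₗ[B] MvPolynomial ι B :=
  symLift ((polF (ι := ι) (ι' := ι') (B := B)).compLinearMap fun _ => s) (fun e m => by
    simp only [MultilinearMap.compLinearMap_apply, polF_apply]
    exact Equiv.prod_comp e fun k => lin (s (m k)))

theorem pol_tprod (m : ι' → KaehlerDifferential A B) :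
    pol s (SymmetricPower.tprod B m) = ∏ k, lin (s (m k)) := symLift_tprod _ _ m

theorem pol_homogeneous (t : SymmetricPower B ι' (KaehlerDifferential A B)) :
    (pol s t).IsHomogeneous (Fintype.card ι') := by
  have ht : t ∈ Submodule.span B (Set.range (SymmetricPower.tprod B (ι := ι')
      (M := KaehlerDifferential A B))) := by
    rw [SymmetricPower.span_tprod_eq_top]; trivial
  induction ht using Submodule.span_induction with
  | mem x hx =>
    obtain ⟨m, rfl⟩ := hx
    rw [pol_tprod]
    have := IsHomogeneous.prod Finset.univ (fun k => lin (s (m k))) (fun _ => 1)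
      (fun k _ => lin_homogeneous (s (m k)))
    simpa using this
  | zero => rw [map_zero]; exact isHomogeneous_zero _ _ _
  | add x y _ _ hx hy => rw [map_add]; exact hx.add hy
  | smul c x _ hx => rw [map_smul, smul_eq_C_mul]; exact hx.C_mul c

theorem pol_mem (t : SymmetricPower B ι' (KaehlerDifferential A B)) :
    pol s t ∈ idealOfVars ι B ^ Fintype.card ι' := by
  rw [mem_pow_idealOfVars_iff']
  intro x hx
  by_contra h
  have h' := pol_homogeneous s t h
  have h'' : x.degree = Fintype.card ι' := by
    rw [Finsupp.degree_eq_weight_one]; exact h'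
  omega

theorem eq_zero_of_pol_mem (t : SymmetricPower B ι' (KaehlerDifferential A B))
    (h : pol s t ∈ idealOfVars ι B ^ (Fintype.card ι' + 1)) : pol s t = 0 := by
  ext x
  rw [coeff_zero]
  by_contra hx
  have h' := pol_homogeneous s t hx
  have h'' : x.degree = Fintype.card ι' := by
    rw [Finsupp.degree_eq_weight_one]; exact h'
  exact hx ((mem_pow_idealOfVars_iff' _ _).mp h x (by omega))

/-- a representative list of a multi-index -/
def Realizes (r : ι →₀ ℕ) (f : ι' → ι) : Prop := (∑ k, Finsupp.single (f k) 1) = r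

theorem exists_realizes (r : ι →₀ ℕ) (hr : r.degree = Fintype.card ι') :
    ∃ f : ι' → ι, Realizes r f := by
  classical
  obtain ⟨l, hl⟩ := Quot.exists_rep r.toMultiset
  have hlen : l.length = Fintype.card ι' := by
    have h1 : Multiset.card r.toMultiset = l.length := by rw [← hl]; rfl
    rw [← h1, Finsupp.card_toMultiset, ← hr]
    rfl
  let e : ι' ≃ Fin l.length := (Fintype.equivFin ι').trans (finCongr hlen.symm)
  refine ⟨fun k => l.get (e k), ?_⟩
  refine Finsupp.orderIsoMultiset.injective ?_
  show Finsupp.toMultiset _ = Finsupp.toMultiset r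
  rw [Finsupp.toMultiset_sum]
  simp only [Finsupp.toMultiset_single, one_smul]
  rw [← hl]
  rw [Equiv.sum_comp e (fun k => ({l.get k} : Multiset ι))]
  have key : ∀ (n : ℕ) (g : Fin n → ι), ∑ i, ({g i} : Multiset ι) = ↑(List.ofFn g) := by
    intro n g
    induction n with
    | zero => simp
    | succ n ih =>
      rw [Fin.sum_univ_succ, ih, List.ofFn_succ]
      rfl
  exact (key _ l.get).trans (congrArg _ (List.ofFn_get l))

theorem exists_perm_of_counts {f f' : ι' → ι} {r : ι →₀ ℕ} (h : Realizes r f) (h' : Realizes r f') :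
    ∃ e : Equiv.Perm ι', ∀ k, f' (e k) = f k := by
  classical
  have hc : ∀ (g : ι' → ι), Realizes r g → ∀ i, Fintype.card {k // g k = i} = r i := by
    intro g hg i
    rw [← hg, Finsupp.finsetSum_apply, Fintype.card_subtype, Finset.card_filter]
    refine Finset.sum_congr rfl fun k _ => ?_
    rw [Finsupp.single_apply]
  have he : ∀ i, {k // f k = i} ≃ {k // f' k = i} := fun i =>
    Fintype.equivOfCardEq ((hc f h i).trans (hc f' h' i).symm)
  exact ⟨Equiv.ofFiberEquiv he, fun k => Equiv.ofFiberEquiv_map he k⟩

open scoped Classical in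
/-- the symmetric tensor of a multi-index -/
def gVal (A : Type u) {B : Type u} [CommRing A] [CommRing B] [Algebra A B] {ι : Type w}
    (z : ι → B) (ι' : Type u) [Fintype ι'] (r : ι →₀ ℕ) :
    SymmetricPower B ι' (KaehlerDifferential A B) :=
  if h : ∃ f : ι' → ι, Realizes r f then
    SymmetricPower.tprod B fun k => KaehlerDifferential.D A B (z (h.choose k))
  else 0

theorem gVal_realizes {r : ι →₀ ℕ} {f : ι' → ι} (hf : Realizes r f) :
    gVal A z ι' r = SymmetricPower.tprod B fun k => KaehlerDifferential.D A B (z (f k)) := by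
  have h : ∃ f : ι' → ι, Realizes r f := ⟨f, hf⟩
  rw [gVal, dif_pos h]
  obtain ⟨e, he⟩ := exists_perm_of_counts h.choose_spec hf
  simp only [← he]
  exact SymmetricPower.tprod_equiv e fun k => KaehlerDifferential.D A B (z (f k))

theorem gVal_of_degree_ne {r : ι →₀ ℕ} (hr : r.degree ≠ Fintype.card ι') :
    gVal A z ι' r = 0 := by
  rw [gVal, dif_neg]
  rintro ⟨f, hf⟩
  refine hr ?_
  rw [← hf, map_sum]
  simp

/-- left inverse of `pol` -/
def gMap (A : Type u) {B : Type u} [CommRing A] [CommRing B] [Algebra A B] {ι : Type w}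
    (z : ι → B) (ι' : Type u) [Fintype ι'] :
    MvPolynomial ι B →ₗ[B] SymmetricPower B ι' (KaehlerDifferential A B) :=
  (MvPolynomial.basisMonomials ι B).constr B (gVal A z ι')

theorem gMap_monomial (r : ι →₀ ℕ) (c : B) :
    gMap A z ι' (monomial r c) = c • gVal A z ι' r := by
  have : monomial r c = c • MvPolynomial.basisMonomials ι B r := by
    rw [coe_basisMonomials, smul_monomial, smul_eq_mul, mul_one]
  rw [this, map_smul, gMap, Module.Basis.constr_basis]

theorem prod_X_eq (f : ι' → ι) :
    ∏ k, (X (f k) : MvPolynomial ι B) = monomial (∑ k, Finsupp.single (f k) 1) 1 := by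
  rw [monomial_sum_one]
  rfl

theorem gMap_polF (c : ι' → ι →₀ B) :
    gMap A z ι' (polF c) = SymmetricPower.tprod B
      (fun k => Finsupp.linearCombination B (fun i => KaehlerDifferential.D A B (z i)) (c k)) := by
  classical
  have h : (gMap A z ι').compMultilinearMap (polF (ι := ι) (ι' := ι') (B := B)) =
      (SymmetricPower.tprod B (ι := ι') (M := KaehlerDifferential A B)).compLinearMap
        (fun _ => Finsupp.linearCombination B (fun i => KaehlerDifferential.D A B (z i))) := by
    refine Module.Basis.ext_multilinear (fun _ => Finsupp.basisSingleOne) fun f => ?_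
    simp only [LinearMap.compMultilinearMap_apply, MultilinearMap.compLinearMap_apply, polF_apply,
      Finsupp.coe_basisSingleOne, lin_single, one_smul, Finsupp.linearCombination_single]
    rw [prod_X_eq, gMap_monomial, one_smul]
    exact gVal_realizes rfl
  exact congrArg (fun F => F c) h

theorem gMap_pol (hs : IsSec z s) (t : SymmetricPower B ι' (KaehlerDifferential A B)) :
    gMap A z ι' (pol s t) = t := by
  suffices h : (gMap A z ι') ∘ₗ pol s = LinearMap.id from LinearMap.congr_fun h t
  refine sym_ext fun m => ?_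
  rw [LinearMap.comp_apply, LinearMap.id_apply, pol_tprod, ← polF_apply, gMap_polF]
  simp only [hs _]

/-- class in the graded piece -/
def cls (j : ℕ) (x : B ⊗[A] B) (h : x ∈ KaehlerDifferential.ideal A B ^ j) : PP16.grI A B j :=
  Submodule.Quotient.mk ⟨x, h⟩

theorem cls_eq_iff {j : ℕ} {x y : B ⊗[A] B} {hx : x ∈ KaehlerDifferential.ideal A B ^ j}
    {hy : y ∈ KaehlerDifferential.ideal A B ^ j} :
    cls j x hx = cls j y hy ↔ x - y ∈ KaehlerDifferential.ideal A B ^ (j + 1) :=
  Submodule.Quotient.eq _

theorem cls_eq_zero_iff {j : ℕ} {x : B ⊗[A] B} {hx : x ∈ KaehlerDifferential.ideal A B ^ j} :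
    cls j x hx = 0 ↔ x ∈ KaehlerDifferential.ideal A B ^ (j + 1) :=
  Submodule.Quotient.mk_eq_zero _

theorem cls_surjective {j : ℕ} (y : PP16.grI A B j) : ∃ x h, cls j x h = y := by
  obtain ⟨⟨x, h⟩, rfl⟩ := Submodule.Quotient.mk_surjective _ y
  exact ⟨x, h, rfl⟩

/-- `θ ∘ pol` followed by the class -/
def phi : SymmetricPower B ι' (KaehlerDifferential A B) →ₗ[B] PP16.grI A B (Fintype.card ι') where
  toFun t := cls _ (theta A z (pol s t)) (theta_mem_pow (pol_mem s t))
  map_add' t t' := by
    show _ = cls _ (theta A z (pol s t) + theta A z (pol s t')) (add_mem (theta_mem_pow (pol_mem s t))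
      (theta_mem_pow (pol_mem s t')))
    refine cls_eq_iff.mpr ?_
    rw [map_add, map_add, sub_self]
    exact zero_mem _
  map_smul' c t := by
    show _ = cls _ (c • theta A z (pol s t))
      (by rw [Algebra.smul_def]; exact Ideal.mul_mem_left _ _ (theta_mem_pow (pol_mem s t)))
    refine cls_eq_iff.mpr ?_
    rw [map_smul, map_smul, sub_self]
    exact zero_mem _

theorem phi_eq_zero_iff (t : SymmetricPower B ι' (KaehlerDifferential A B)) :
    phi (z := z) s t = 0 ↔
      theta A z (pol s t) ∈ KaehlerDifferential.ideal A B ^ (Fintype.card ι' + 1) :=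
  cls_eq_zero_iff

theorem phi_zeta (hs : IsSec z s) (a : ι' → B) :
    phi (z := z) s (SymmetricPower.tprod B fun k => KaehlerDifferential.D A B (a k)) =
      PP16.zetaProd A B a := by
  show cls _ _ _ = cls _ (∏ k, delta A (a k)) _
  refine cls_eq_iff.mpr ?_
  rw [pol_tprod, map_prod, ← Finset.card_univ]
  exact prod_congr_pow _ _ _ _ (fun k _ => theta_lin_mem _) (fun k _ => delta_mem _)
    (fun k _ => theta_lin_D_congr s hs (a k))

theorem zetaProd_eq_theta (f : ι' → ι) :
    PP16.zetaProd A B (fun k => z (f k)) =
      cls (Fintype.card ι') (theta A z (monomial (∑ k, Finsupp.single (f k) 1) 1))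
        (by
          rw [← prod_X_eq, map_prod, ← Finset.card_univ]
          exact PP16.prod_mem_pow (KaehlerDifferential.ideal A B) Finset.univ _
            (fun k _ => by simpa [theta] using delta_mem (A := A) (z (f k)))) := by
  show cls _ (∏ k, delta A (z (f k))) _ = _
  refine cls_eq_iff.mpr ?_
  rw [← prod_X_eq, map_prod]
  simp [theta]

theorem exists_eq_theta_monomial
    (φ : SymmetricPower B ι' (KaehlerDifferential A B) →ₗ[B] PP16.grI A B (Fintype.card ι'))
    (hφ : ∀ a : ι' → B, φ (SymmetricPower.tprod B fun k => KaehlerDifferential.D A B (a k)) =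
      PP16.zetaProd A B a) (r : ι →₀ ℕ) (c : B)
    (hr : monomial r c ∈ idealOfVars ι B ^ Fintype.card ι') :
    φ (gMap A z ι' (monomial r c)) = cls _ (theta A z (monomial r c)) (theta_mem_pow hr) := by
  rw [gMap_monomial, map_smul]
  rcases eq_or_ne c 0 with rfl | hc
  · refine (zero_smul B (φ (gVal A z ι' r))).trans (cls_eq_zero_iff.mpr ?_).symm
    simp
  have hr' : Fintype.card ι' ≤ r.degree := (monomial_mem_pow_idealOfVars_iff _ _ hc).mp hr
  rcases hr'.lt_or_eq with hlt | heq
  · rw [gVal_of_degree_ne (by omega), map_zero, smul_zero]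
    refine (cls_eq_zero_iff.mpr ?_).symm
    exact theta_mem_pow ((monomial_mem_pow_idealOfVars_iff _ _ hc).mpr (by omega))
  · obtain ⟨f, hf⟩ := exists_realizes (ι' := ι') r heq.symm
    rw [gVal_realizes hf, hφ (fun k => z (f k)), zetaProd_eq_theta]
    refine (?_ : cls (Fintype.card ι') (c • theta A z (monomial (∑ k, Finsupp.single (f k) 1) 1))
      (by
        rw [← map_smul]
        refine theta_mem_pow ?_
        rw [smul_monomial, smul_eq_mul, mul_one, hf]
        exact hr) = _)
    refine cls_eq_iff.mpr ?_
    rw [hf, ← map_smul, smul_monomial, smul_eq_mul, mul_one, sub_self]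
    exact zero_mem _

theorem exists_eq_theta
    (φ : SymmetricPower B ι' (KaehlerDifferential A B) →ₗ[B] PP16.grI A B (Fintype.card ι'))
    (hφ : ∀ a : ι' → B, φ (SymmetricPower.tprod B fun k => KaehlerDifferential.D A B (a k)) =
      PP16.zetaProd A B a) :
    ∀ P : MvPolynomial ι B, ∀ hP : P ∈ idealOfVars ι B ^ Fintype.card ι',
      φ (gMap A z ι' P) = cls _ (theta A z P) (theta_mem_pow hP) := by
  classical
  intro P
  induction P using MvPolynomial.monomial_add_induction_on with
  | C c => intro hP; exact exists_eq_theta_monomial φ hφ 0 c hP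
  | monomial_add r c Q hr hc hQ =>
    intro hP
    rw [mem_pow_idealOfVars_iff'] at hP
    have hQ' : Q ∈ idealOfVars ι B ^ Fintype.card ι' := by
      rw [mem_pow_idealOfVars_iff']
      intro x hx
      by_cases hxr : x = r
      · rw [hxr]; exact notMem_support_iff.mp hr
      · have := hP x hx
        rwa [coeff_add, coeff_monomial, if_neg (Ne.symm hxr), zero_add] at this
    have hr' : Fintype.card ι' ≤ r.degree := by
      by_contra h
      have := hP r (by omega)
      rw [coeff_add, coeff_monomial, if_pos rfl, notMem_support_iff.mp hr, add_zero] at this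
      exact hc this
    have hr'' : monomial r c ∈ idealOfVars ι B ^ Fintype.card ι' :=
      (monomial_mem_pow_idealOfVars_iff _ _ hc).mpr hr'
    rw [map_add, map_add, hQ hQ', exists_eq_theta_monomial φ hφ r c hr'']
    show cls _ (theta A z (monomial r c) + theta A z Q)
      (add_mem (theta_mem_pow hr'') (theta_mem_pow hQ')) = _
    refine cls_eq_iff.mpr ?_
    rw [map_add, sub_self]
    exact zero_mem _

theorem phi_surjective (hs : IsSec z s) :
    Function.Surjective (phi (ι' := ι') (z := z) s) := by
  intro y
  obtain ⟨x, hx, rfl⟩ := cls_surjective y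
  obtain ⟨P, hP, hxP⟩ := exists_sub_mem (gen_of_sec hs) _ x hx (Fintype.card ι' + 1)
  refine ⟨gMap A z ι' P, ?_⟩
  refine (exists_eq_theta _ (phi_zeta s hs) P hP).trans (cls_eq_iff.mpr ?_)
  have := neg_mem hxP
  rwa [neg_sub] at this

theorem isDiffSmooth_of_pol (hs : IsSec z s)
    (h : ∀ (ι' : Type u) [Fintype ι'] (t : SymmetricPower B ι' (KaehlerDifferential A B)),
      theta A z (pol s t) ∈ KaehlerDifferential.ideal A B ^ (Fintype.card ι' + 1) →
        pol s t ∈ idealOfVars ι B ^ (Fintype.card ι' + 1)) :
    PP16.IsDiffSmooth A B := by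
  refine ⟨Module.Projective.of_split s
    (Finsupp.linearCombination B (fun i => KaehlerDifferential.D A B (z i))) (LinearMap.ext hs),
    fun ι' _ => ⟨phi (z := z) s, phi_zeta s hs, ?_, phi_surjective s hs⟩⟩
  rw [injective_iff_map_eq_zero]
  intro t ht
  have h0 := eq_zero_of_pol_mem s t (h ι' t ((phi_eq_zero_iff s t).mp ht))
  rw [← gMap_pol s hs t, h0, map_zero]

theorem isSec_repr (b : Module.Basis ι B (KaehlerDifferential A B))
    (hb : ∀ i, b i = KaehlerDifferential.D A B (z i)) : IsSec z b.repr.toLinearMap := by
  intro m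
  have : (fun i => KaehlerDifferential.D A B (z i)) = b := funext fun i => (hb i).symm
  rw [this]
  exact b.linearCombination_repr m

theorem isDiffSmooth_of_indep (b : Module.Basis ι B (KaehlerDifferential A B))
    (hb : ∀ i, b i = KaehlerDifferential.D A B (z i)) (hi : Indep A z) :
    PP16.IsDiffSmooth A B :=
  isDiffSmooth_of_pol b.repr.toLinearMap (isSec_repr b hb) fun _ _ _ h => hi _ _ h

theorem indep_of_isDiffSmooth (b : Module.Basis ι B (KaehlerDifferential A B))
    (hb : ∀ i, b i = KaehlerDifferential.D A B (z i)) (h : PP16.IsDiffSmooth A B) :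
    Indep A z := by
  classical
  intro m P hP
  suffices ∀ j ≤ m + 1, P ∈ idealOfVars ι B ^ j from this _ le_rfl
  intro j
  induction j with
  | zero => intro _; simp
  | succ j ih =>
    intro hj
    have hP' := ih (by omega)
    obtain ⟨φ, hφ, hbij⟩ := h.2 (ULift.{u} (Fin j))
    have hcard : Fintype.card (ULift.{u} (Fin j)) = j := by simp
    have hP'' : P ∈ idealOfVars ι B ^ Fintype.card (ULift.{u} (Fin j)) := by rwa [hcard]
    have h0 := exists_eq_theta (z := z) φ hφ P hP''
    have hz : gMap A z (ULift.{u} (Fin j)) P = 0 := by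
      refine hbij.1 ?_
      rw [map_zero, h0, cls_eq_zero_iff, hcard]
      exact Ideal.pow_le_pow_right (by omega) hP
    rw [mem_pow_idealOfVars_iff']
    intro x hx
    rcases Nat.lt_succ_iff_lt_or_eq.mp hx with hlt | heq
    · exact (mem_pow_idealOfVars_iff' j P).mp hP' x hlt
    · have key : ∀ Q : MvPolynomial ι B,
          coeff x (pol b.repr.toLinearMap (gMap A z (ULift.{u} (Fin j)) Q)) = coeff x Q := by
        intro Q
        induction Q using MvPolynomial.induction_on' with
        | add Q Q' hQ hQ' => rw [map_add, map_add, coeff_add, coeff_add, hQ, hQ']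
        | monomial r c =>
          rw [gMap_monomial, map_smul, coeff_smul, smul_eq_mul]
          by_cases hr : r.degree = Fintype.card (ULift.{u} (Fin j))
          · obtain ⟨f, hf⟩ := exists_realizes (ι' := ULift.{u} (Fin j)) r hr
            have : pol b.repr.toLinearMap (gVal A z (ULift.{u} (Fin j)) r) = monomial r 1 := by
              rw [gVal_realizes hf, pol_tprod, ← hf, ← prod_X_eq]
              refine Finset.prod_congr rfl fun k _ => ?_
              rw [← hb, LinearEquiv.coe_coe, Module.Basis.repr_self, lin_single, one_smul]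
            rw [this, coeff_monomial, coeff_monomial]
            split_ifs <;> simp
          · rw [gVal_of_degree_ne hr, map_zero, coeff_zero, mul_zero, coeff_monomial, if_neg]
            rintro rfl
            exact hr (by rw [hcard, heq])
      rw [← key P, hz, map_zero, coeff_zero]

end main

end Groth.Agent.Diff.Sym
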