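import Groth.Agent.Diff.SmoothIndep
import Groth.Agent.Diff.PM

/-!
`P^n` as a truncated polynomial algebra.
-/

set_option autoImplicit false

noncomputable section

namespace Groth.Agent.Diff.Truncated

universe u w

open scoped TensorProduct
open Groth.Agent.Diff.Basic Groth.Agent.Diff.Monomial Groth.Agent.Diff.PM MvPolynomial

variable (n : ℕ) (A B : Type u) [CommRing A] [CommRing B] [Algebra A B] {ι : Type w} {z : ι → B}

theorem aeval_surjective_ker (hg : Gen A z) (hi : Indep A z) :
    Function.Surjective (MvPolynomial.aeval (R := B) (S₁ := PP16.P n A B) (fun i : ι =>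
        PP16.dn n A B (z i) - algebraMap B (PP16.P n A B) (z i))) ∧
      RingHom.ker (MvPolynomial.aeval (R := B) (S₁ := PP16.P n A B) (fun i : ι =>
        PP16.dn n A B (z i) - algebraMap B (PP16.P n A B) (z i))).toRingHom =
      (Ideal.span (Set.range (MvPolynomial.X : ι → MvPolynomial ι B))) ^ (n + 1) := by
  have h : ∀ P, MvPolynomial.aeval (R := B) (S₁ := PP16.P n A B) (fun i : ι =>
      PP16.dn n A B (z i) - algebraMap B (PP16.P n A B) (z i)) P = q n A B (theta A z P) := by
    intro P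
    induction P using MvPolynomial.induction_on with
    | C c => rw [aeval_C, theta, aeval_C]; rfl
    | add P Q hP hQ => simp only [map_add, hP, hQ]
    | mul_X P i hP =>
      rw [map_mul, hP, map_mul, map_mul, aeval_X]
      congr 1
      rw [theta, aeval_X, delta, map_sub]
      rfl
  refine ⟨fun y => ?_, ?_⟩
  · obtain ⟨x, rfl⟩ := q_surjective n A B y
    obtain ⟨P, -, hP⟩ := exists_sub_mem hg 0 x (by simp) (n + 1)
    exact ⟨P, (h P).trans (Ideal.Quotient.eq.mpr hP).symm⟩
  · ext P
    rw [RingHom.mem_ker]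
    show MvPolynomial.aeval (R := B) (S₁ := PP16.P n A B) _ P = 0 ↔ _
    rw [h]
    exact Ideal.Quotient.eq_zero_iff_mem.trans ⟨hi n P, theta_mem_pow⟩

theorem exists_equiv_of_surjective {R₀ R S : Type*} [CommRing R₀] [CommRing R] [CommRing S]
    [Algebra R₀ R] [Algebra R₀ S] (f : R →ₐ[R₀] S) (hs : Function.Surjective f) {J : Ideal R}
    (hJ : RingHom.ker f.toRingHom = J) :
    ∃ e : S ≃ₐ[R₀] R ⧸ J, ∀ x, e (f x) = Ideal.Quotient.mk J x := by
  subst hJ
  refine ⟨(Ideal.quotientKerAlgEquivOfSurjective hs).symm, fun x => ?_⟩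
  exact (AlgEquiv.symm_apply_eq (Ideal.quotientKerAlgEquivOfSurjective hs)).mpr rfl

theorem exists_algEquiv (z : ι → B) (hg : Gen A z) (hi : Indep A z) :
    ∃ e : PP16.P n A B ≃ₐ[B] (MvPolynomial ι B ⧸
        Ideal.span (Set.range (MvPolynomial.X : ι → MvPolynomial ι B)) ^ (n + 1)),
      ∀ i : ι, e (PP16.dn n A B (z i)) = Ideal.Quotient.mk _ (C (z i) + X i) := by
  obtain ⟨hs, hk⟩ := aeval_surjective_ker n A B hg hi
  obtain ⟨e, he⟩ := exists_equiv_of_surjective (MvPolynomial.aeval (R := B) (S₁ := PP16.P n A B)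
    (fun i : ι => PP16.dn n A B (z i) - algebraMap B (PP16.P n A B) (z i))) hs hk
  refine ⟨e, fun i => ?_⟩
  rw [← he]
  congr 1
  rw [map_add, aeval_C, aeval_X, add_sub_cancel]

end Groth.Agent.Diff.Truncated
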